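import Cfsg.Agent.H929.TB.Adm
import Cfsg.Agent.H417.EP.Base
import Cfsg.Agent.H226.EX.Glue
import Cfsg.Agent.SectRankFour.OutAb
import Cfsg.Agent.S0813
import Cfsg.Agent.TwoFusion.SLTwoFacts

/-!
# Extremely primitive groups: point stabilisers with socle `PSL₂(q)`, `q = 8, 25, 27, 49` (helper929, paper helper876)

`index_eight`, `index_tf`, `index_ts`, `index_fn` : bounds for the index of the stabiliser;
`kill_eight` .. `kill_fn` : the rows of S5745.
-/

set_option autoImplicit false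
set_option linter.unusedSectionVars false

namespace Cfsg.Agent.H929.TB

open Subgroup Cfsg Matrix
open Cfsg.Agent.BpLin Cfsg.Agent.LieClassical.SLTwoUnipotent
open Cfsg.Agent.ClassicalGeometry.PSL2Solvable
open Cfsg.Agent.ClassicalGeometry.AutPSL.Root Cfsg.Agent.ClassicalGeometry.AutPSL.Auto
  Cfsg.Agent.ClassicalGeometry.AutPSL.Main
open Cfsg.Agent.H284 Cfsg.Agent.H417.EP Cfsg.Agent.H419.EP Cfsg.Agent.H209.EPX Cfsg.Agent.H226.EX

section Count

variable {F : Type*} [Field F] [Fintype F]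

local notation "S2" => Matrix.SpecialLinearGroup (Fin 2) F
local notation "P2" => Matrix.ProjectiveSpecialLinearGroup (Fin 2) F

theorem ncomm : ∃ a b : P2, a * b ≠ b * a := by
  refine ⟨pr (u 1), pr (l 1), fun h => ?_⟩
  rw [← map_mul, ← map_mul, Cfsg.Agent.H947.Sy.pr_eq_iff] at h
  rcases h with h | h
  · have h1 := congrArg (fun A : S2 => A 0 0) h
    simp [coe_u, coe_l, Matrix.mul_apply, Fin.sum_univ_two] at h1
  · have h1 := congrArg (fun A : S2 => A.1 0 0) h
    have h2 := congrArg (fun A : S2 => A.1 0 1) h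
    simp [coe_u, coe_l, Matrix.mul_apply, Fin.sum_univ_two] at h1 h2
    have h3 : (1 : F) = 0 := by linear_combination h1 - h2
    exact one_ne_zero h3

theorem card_sylow_mul {p f : ℕ} [hp : Fact p.Prime] (hF : Fintype.card F = p ^ f) :
    Nat.card (Sylow p P2) * Fintype.card F ≤ Nat.card P2 := by
  have : CharP F p := charP_of_card_eq_prime_pow hF
  obtain ⟨P⟩ : Nonempty (Sylow p P2) := inferInstance
  have hq : 1 < Fintype.card F := Fintype.one_lt_card
  have h1 : p ^ f ∣ Nat.card P2 := by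
    have h2 := Cfsg.Agent.H394.SqPsl2.card_psl (F := F)
    have h3 : p ^ f ∣ Nat.gcd 2 (Fintype.card F - 1) * Nat.card P2 := by
      rw [h2, ← hF]; exact Dvd.intro _ rfl
    refine Nat.Coprime.dvd_of_dvd_mul_left ?_ h3
    rw [← hF]
    have h4 : Nat.gcd 2 (Fintype.card F - 1) ∣ Fintype.card F - 1 := Nat.gcd_dvd_right _ _
    have h5 : Nat.Coprime (Fintype.card F) (Fintype.card F - 1) :=
      (Nat.coprime_self_sub_right hq.le).2 (Nat.coprime_one_right _)
    exact Nat.Coprime.coprime_dvd_right h4 h5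
  have h2 : p ^ f ∣ Nat.card P := P.pow_dvd_card_of_pow_dvd_card h1
  have h3 : p ^ f ≤ Nat.card P := Nat.le_of_dvd Nat.card_pos h2
  have h4 : Nat.card (Sylow p P2) ≤ P.index := by
    rw [P.card_eq_index_normalizer]
    exact Nat.le_of_dvd (Nat.pos_of_ne_zero (Subgroup.index_ne_zero_of_finite)) (Subgroup.index_dvd_of_le le_normalizer)
  rw [hF]
  calc Nat.card (Sylow p P2) * p ^ f ≤ P.index * Nat.card P := Nat.mul_le_mul h4 h3
    _ = Nat.card P2 := by rw [mul_comm]; exact (P : Subgroup P2).card_mul_index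

theorem ncard_adm_le {p f : ℕ} [hp : Fact p.Prime] (hf : f.Prime) (hF : Fintype.card F = p ^ f)
    [IsSimpleGroup P2] : {K : Subgroup P2 | Adm K}.ncard ≤
      (Dn P2 2).ncard * ((Dn P2 2).ncard + (Dn P2 3).ncard) + Nat.card (Sylow p P2) := by
  have : CharP F p := charP_of_card_eq_prime_pow hF
  have hsub : {K : Subgroup P2 | Adm K} ⊆
      (fun x : P2 × P2 => normalizer ((closure {x.1, x.2} : Subgroup P2) : Set P2)) '' (Dn P2 2 ×ˢ (Dn P2 2 ∪ Dn P2 3)) ∪
      Set.range (fun P : Sylow p P2 => normalizer ((P : Subgroup P2) : Set P2)) := by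
    intro K hK
    rcases adm_cases hf hF ncomm hK with ⟨a, b, ha, hb, rfl⟩ | ⟨P, rfl⟩
    · exact Or.inl ⟨(a, b), ⟨ha, hb⟩, rfl⟩
    · exact Or.inr ⟨P, rfl⟩
  refine (Set.ncard_le_ncard hsub (Set.toFinite _)).trans ((Set.ncard_union_le _ _).trans (Nat.add_le_add ?_ ?_))
  · refine (Set.ncard_image_le (Set.toFinite _)).trans ?_
    rw [Set.ncard_prod]
    exact Nat.mul_le_mul_left _ (Set.ncard_union_le _ _)
  · rw [← Set.image_univ]
    refine (Set.ncard_image_le (Set.toFinite _)).trans ?_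
    rw [Set.ncard_univ]

/-- the normaliser of a Sylow `p`-subgroup has even order if `-1` is a square, `p` odd -/
theorem sylow_two {p : ℕ} [hp : Fact p.Prime] [CharP F p] (h2 : (2 : F) ≠ 0) (hi : ∃ i : F, i * i = -1)
    (P : Sylow p P2) : ∃ a ∈ normalizer ((P : Subgroup P2) : Set P2), a ∈ Dn P2 2 := by
  obtain ⟨g, hg⟩ := Cfsg.Agent.H947.Sy.exists_conj_sylow P
  obtain ⟨i, hi⟩ := hi
  let d : S2 := ⟨!![i, 0; 0, -i], by rw [Matrix.det_fin_two_of]; linear_combination -hi⟩
  have hd2 : d ^ 2 = -1 := by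
    apply Subtype.ext
    rw [Matrix.SpecialLinearGroup.coe_pow, sq]
    ext a b
    fin_cases a <;> fin_cases b <;> simp [d, Matrix.mul_apply, Fin.sum_univ_two, hi]
  have hneg : (pr (-1 : S2) : P2) = 1 := by
    rw [pr_neg, map_one]
  have hd : (pr d : P2) ^ 2 = 1 := by rw [← map_pow, hd2, hneg]
  have hd1 : (pr d : P2) ≠ 1 := by
    rw [Ne, pr_one_iff]
    rintro ⟨-, -, h⟩
    have h' : i = -i := h
    have h3 : (2 : F) * i = 0 := by linear_combination h'
    rcases mul_eq_zero.1 h3 with h4 | h4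
    · exact h2 h4
    · rw [h4, mul_zero] at hi
      have : (1 : F) = 0 := by linear_combination hi
      exact one_ne_zero this
  have hconj : ∀ y ∈ (upperUnipSL F).map (pr : S2 →* P2), pr d * y * (pr d)⁻¹ ∈ (upperUnipSL F).map (pr : S2 →* P2) := by
    rintro _ ⟨v, hv, rfl⟩
    refine ⟨d * v * d⁻¹, ?_, by simp only [map_mul, map_inv]⟩
    have hv' : v = u (v 0 1) := eq_u_of_mem_upperUnipSL hv
    have h3 : d * v = u (-(v 0 1)) * d := by
      rw [hv']
      apply Subtype.ext
      rw [Matrix.SpecialLinearGroup.coe_mul, Matrix.SpecialLinearGroup.coe_mul, coe_u, coe_u]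
      ext a b
      fin_cases a <;> fin_cases b <;> simp [d, Matrix.mul_apply, Fin.sum_univ_two]
      ring
    rw [h3, mul_inv_cancel_right]
    exact u_mem_upperUnipSL _
  refine ⟨g * pr d * g⁻¹, ?_, ?_, ?_⟩
  · have key : ∀ y ∈ (P : Subgroup P2), (g * pr d * g⁻¹) * y * (g * pr d * g⁻¹)⁻¹ ∈ (P : Subgroup P2) := by
      intro y hy
      rw [hg] at hy ⊢
      have h4 : g⁻¹ * ((g * pr d * g⁻¹) * y * (g * pr d * g⁻¹)⁻¹) * g = pr d * (g⁻¹ * y * g) * (pr d)⁻¹ := by group
      rw [h4]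
      exact hconj _ hy
    have hinv : (g * pr d * g⁻¹)⁻¹ = g * pr d * g⁻¹ := by
      apply inv_eq_of_mul_eq_one_right
      have h5 : g * pr d * g⁻¹ * (g * pr d * g⁻¹) = g * (pr d) ^ 2 * g⁻¹ := by rw [sq]; group
      rw [h5, hd, mul_one, mul_inv_cancel]
    rw [mem_normalizer_iff]
    intro y
    refine ⟨key y, fun hy => ?_⟩
    have h6 := key _ hy
    rw [hinv] at h6
    have h7 : g * pr d * g⁻¹ * (g * pr d * g⁻¹ * y * (g * pr d * g⁻¹)) * (g * pr d * g⁻¹) =
        (g * (pr d) ^ 2 * g⁻¹) * y * (g * (pr d) ^ 2 * g⁻¹) := by rw [sq]; group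
    rw [h7, hd, mul_one, mul_inv_cancel, one_mul, mul_one] at h6
    exact h6
  · intro h
    apply hd1
    have h8 : (pr d : P2) = g⁻¹ * (g * pr d * g⁻¹) * g := by group
    rw [h8, h, mul_one, inv_mul_cancel]
  · rw [conj_pow, hd, mul_one, mul_inv_cancel]

end Count

section Bound

variable {F : Type*} [Field F] [Fintype F]
variable {Q : Type*} [Group Q] [Finite Q] {A : Subgroup Q} {Γ : Subgroup (MulAut Q)}

local notation "P2" => Matrix.ProjectiveSpecialLinearGroup (Fin 2) F

open Classical in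
theorem core (h : EPT A Γ) (hs : HasSoc A P2) (h4 : 4 ≤ Fintype.card F) [Fintype P2] (w : P2 → ℕ) (hw1 : w 1 = 0)
    {c W m : ℕ} (hc : ∀ K : Subgroup P2, Adm K → c ≤ ∑ t : P2, if t ∈ K then w t else 0) (hW : ∑ t : P2, w t ≤ W)
    (hm : {K : Subgroup P2 | Adm K}.ncard ≤ m) : (A.index - 1) * c ≤ W * (m - 1) := by
  have hsim : IsSimpleGroup P2 := Cfsg.Agent.TwoFusion.SLTwoFacts.isSimpleGroup_psl (by omega)
  obtain ⟨N, hNA, hN, hcent, ⟨e⟩⟩ := hs
  have hOut : ∀ α β : MulAut P2, α * β * α⁻¹ * β⁻¹ ∈ (MulAut.conj : P2 →* MulAut P2).range := by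
    intro α β
    obtain ⟨k, hk⟩ := Cfsg.Agent.SectRankFour.OutAb.outComm_psl_two F α β
    exact ⟨k, MulEquiv.ext fun x => (hk x).symm⟩
  have hi : Inv A Γ (emb e) := base_inv h hNA hN e hcent
  have hne : ∀ x, x ∉ A → tr (emb e) A x ≠ ⊥ := fun x hx => base_tr h hNA hN ncomm e hcent hOut hx
  exact weight_bound h hi hne w hw1 hc hW hm

/-- the weight 1 on all nontrivial elements -/
theorem index_all (h : EPT A Γ) (hs : HasSoc A P2) (h4 : 4 ≤ Fintype.card F) {m : ℕ}
    (hm : {K : Subgroup P2 | Adm K}.ncard ≤ m) : (A.index - 1) * 5 ≤ (Nat.card P2 - 1) * (m - 1) := by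
  classical
  have : Fintype P2 := Fintype.ofFinite P2
  have hsim : IsSimpleGroup P2 := Cfsg.Agent.TwoFusion.SLTwoFacts.isSimpleGroup_psl (by omega)
  have hsum : ∀ K : Subgroup P2, (∑ t : P2, if t ∈ K then (if t = 1 then 0 else 1) else 0) + 1 = Nat.card K := by
    intro K
    have h1 : (∑ t : P2, if t ∈ K then (if t = 1 then 0 else 1) else 0) =
        ((Finset.univ.filter (· ∈ K)).erase 1).card := by
      rw [Finset.card_eq_sum_ones, ← Finset.sum_filter]
      have h2 : (Finset.univ.filter (· ∈ K)).erase (1 : P2) = (Finset.univ.filter (· ∈ K)).filter (fun t => t ≠ 1) := by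
        rw [Finset.filter_ne']
      rw [h2, Finset.sum_filter (fun t : P2 => t ≠ 1)]
      refine Finset.sum_congr rfl fun t _ => ?_
      by_cases ht : t = 1
      · rw [if_pos ht, if_neg (not_not.2 ht)]
      · rw [if_neg ht, if_pos ht]
    have h3 : (Finset.univ.filter (· ∈ K)).card = Nat.card K := by
      rw [Nat.card_eq_fintype_card, Fintype.card_subtype]
    rw [h1, Finset.card_erase_of_mem (Finset.mem_filter.2 ⟨Finset.mem_univ _, one_mem K⟩), h3]
    have : 0 < Nat.card K := Nat.card_pos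
    omega
  refine core h hs h4 (fun t => if t = 1 then 0 else 1) (if_pos rfl) (c := 5) (W := Nat.card P2 - 1) ?_ ?_ hm
  · intro K hK
    have h1 := hsum K
    have h2 : 6 ≤ Nat.card K := by
      by_contra hcon
      apply hK.not_comm ncomm
      intro a ha b hb
      exact Subtype.ext_iff.1 (Cfsg.Agent.SectRankFour.OutAb.comm_of_card_le_five (Q := K) (by omega) ⟨a, ha⟩ ⟨b, hb⟩)
    have h3 : 5 ≤ ∑ t : P2, if t ∈ K then (if t = 1 then 0 else 1) else 0 := by omega
    convert h3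
  · have h1 := hsum ⊤
    rw [Subgroup.card_top] at h1
    have h2 : ∑ t : P2, (if t = 1 then 0 else 1) = ∑ t : P2, if t ∈ (⊤ : Subgroup P2) then (if t = 1 then 0 else 1) else 0 :=
      Finset.sum_congr rfl fun t _ => by rw [if_pos (mem_top t)]
    rw [h2]
    omega

/-- the weight 1 on the involutions -/
theorem index_two (h : EPT A Γ) (hs : HasSoc A P2) (h4 : 4 ≤ Fintype.card F) {m i : ℕ}
    (hm : {K : Subgroup P2 | Adm K}.ncard ≤ m) (hi : (Dn P2 2).ncard ≤ i)
    (he : ∀ K : Subgroup P2, Adm K → ∃ a ∈ K, a ∈ Dn P2 2) : A.index - 1 ≤ i * (m - 1) := by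
  classical
  have : Fintype P2 := Fintype.ofFinite P2
  have h1 := core h hs h4 (fun t => if t ∈ Dn P2 2 then 1 else 0) (if_neg fun h => h.1 rfl) (c := 1) (W := i)
    (fun K hK => ?_) ?_ hm
  · rwa [mul_one] at h1
  · obtain ⟨a, haK, ha⟩ := he K hK
    have h2 : 1 ≤ ∑ t : P2, if t ∈ K then (if t ∈ Dn P2 2 then 1 else 0) else 0 := by
      refine le_trans ?_ (Finset.single_le_sum (f := fun t : P2 => if t ∈ K then (if t ∈ Dn P2 2 then 1 else 0) else 0)
        (fun _ _ => Nat.zero_le _) (Finset.mem_univ a))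
      show 1 ≤ if a ∈ K then (if a ∈ Dn P2 2 then 1 else 0) else 0
      rw [if_pos haK, if_pos ha]
    convert h2
  · refine le_trans (le_of_eq ?_) hi
    rw [← Finset.card_filter, ← Set.ncard_coe_finset]
    refine congrArg Set.ncard (Set.ext fun t => ?_)
    simp

theorem card_psl_of {q c : ℕ} (hF : Fintype.card F = q) (hc : Nat.gcd 2 (q - 1) * c = q * (q ^ 2 - 1))
    (h0 : 0 < Nat.gcd 2 (q - 1)) : Nat.card P2 = c := by
  have h1 := Cfsg.Agent.H394.SqPsl2.card_psl (F := F)
  rw [hF, ← hc] at h1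
  exact Nat.eq_of_mul_eq_mul_left h0 h1

theorem two_ne_zero_of {p f : ℕ} [Fact p.Prime] (hF : Fintype.card F = p ^ f) (hp : p ≠ 2) : (2 : F) ≠ 0 := by
  have : CharP F p := charP_of_card_eq_prime_pow hF
  intro h
  have h1 : ((2 : ℕ) : F) = 0 := by rw [Nat.cast_ofNat]; exact h
  rw [CharP.cast_eq_zero_iff F p] at h1
  exact hp ((Nat.prime_dvd_prime_iff_eq (Fact.out : p.Prime) Nat.prime_two).1 h1)

/-- **`PSL₂(8)`** -/
theorem index_eight (h : EPT A Γ) (hs : HasSoc A P2) (hF : Fintype.card F = 8) : A.index ≤ 1049259 := by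
  have hp : Fact (Nat.Prime 2) := ⟨Nat.prime_two⟩
  have hF' : Fintype.card F = 2 ^ 3 := hF
  have hsim : IsSimpleGroup P2 := Cfsg.Agent.TwoFusion.SLTwoFacts.isSimpleGroup_psl (by omega)
  have hc : Nat.card P2 = 504 := card_psl_of hF (by norm_num) (by norm_num)
  have h1 := ncard_adm_le (F := F) (p := 2) (f := 3) Nat.prime_three hF'
  have h2 := card_sylow_mul (F := F) (p := 2) (f := 3) hF'
  have h3 := two_le (F := F)
  have h5 := three_le (F := F)
  rw [hc, hF] at h2
  rw [hF] at h3 h5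
  have h6 : {K : Subgroup P2 | Adm K}.ncard ≤ 10431 := by
    refine h1.trans ?_
    have h7 : (Dn P2 2).ncard * ((Dn P2 2).ncard + (Dn P2 3).ncard) ≤ 72 * (72 + 72) := by gcongr <;> omega
    omega
  have h7 := index_all h hs (by omega) h6
  rw [hc] at h7
  omega

/-- **`PSL₂(25)`** -/
theorem index_tf (h : EPT A Γ) (hs : HasSoc A P2) (hF : Fintype.card F = 25) : A.index ≤ 494746724 := by
  have hp : Fact (Nat.Prime 5) := ⟨Nat.prime_five⟩
  have hF' : Fintype.card F = 5 ^ 2 := hF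
  have hsim : IsSimpleGroup P2 := Cfsg.Agent.TwoFusion.SLTwoFacts.isSimpleGroup_psl (by omega)
  have hc : Nat.card P2 = 7800 := card_psl_of hF (by norm_num) (by norm_num)
  have h1 := ncard_adm_le (F := F) (p := 5) (f := 2) Nat.prime_two hF'
  have h2 := card_sylow_mul (F := F) (p := 5) (f := 2) hF'
  have h3 := two_le_odd (F := F) (two_ne_zero_of hF' (by norm_num))
  have h5 := three_le (F := F)
  rw [hc, hF] at h2
  rw [hF] at h3 h5
  have h6 : {K : Subgroup P2 | Adm K}.ncard ≤ 317187 := by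
    refine h1.trans ?_
    have h7 : (Dn P2 2).ncard * ((Dn P2 2).ncard + (Dn P2 3).ncard) ≤ 325 * (325 + 650) := by gcongr <;> omega
    omega
  have h7 := index_all h hs (by omega) h6
  rw [hc] at h7
  omega

/-- **`PSL₂(27)`** -/
theorem index_ts (h : EPT A Γ) (hs : HasSoc A P2) (hF : Fintype.card F = 27) : A.index ≤ 843186082 := by
  have hp : Fact (Nat.Prime 3) := ⟨Nat.prime_three⟩
  have hF' : Fintype.card F = 3 ^ 3 := hF
  have hsim : IsSimpleGroup P2 := Cfsg.Agent.TwoFusion.SLTwoFacts.isSimpleGroup_psl (by omega)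
  have hc : Nat.card P2 = 9828 := card_psl_of hF (by norm_num) (by norm_num)
  have h1 := ncard_adm_le (F := F) (p := 3) (f := 3) Nat.prime_three hF'
  have h2 := card_sylow_mul (F := F) (p := 3) (f := 3) hF'
  have h3 := two_le_odd (F := F) (two_ne_zero_of hF' (by norm_num))
  have h5 := three_le (F := F)
  rw [hc, hF] at h2
  rw [hF] at h3 h5
  have h6 : {K : Subgroup P2 | Adm K}.ncard ≤ 429016 := by
    refine h1.trans ?_
    have h7 : (Dn P2 2).ncard * ((Dn P2 2).ncard + (Dn P2 3).ncard) ≤ 378 * (378 + 756) := by gcongr <;> omega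
    omega
  have h7 := index_all h hs (by omega) h6
  rw [hc] at h7
  omega

/-- **`PSL₂(49)`** -/
theorem index_fn (h : EPT A Γ) (hs : HasSoc A P2) (hF : Fintype.card F = 49) : A.index ≤ 5516265651 := by
  have hp : Fact (Nat.Prime 7) := ⟨by norm_num⟩
  have hF' : Fintype.card F = 7 ^ 2 := hF
  have hchar : CharP F 7 := charP_of_card_eq_prime_pow hF'
  have hsim : IsSimpleGroup P2 := Cfsg.Agent.TwoFusion.SLTwoFacts.isSimpleGroup_psl (by omega)
  have hc : Nat.card P2 = 58800 := card_psl_of hF (by norm_num) (by norm_num)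
  have h20 := two_ne_zero_of hF' (by norm_num)
  have h1 := ncard_adm_le (F := F) (p := 7) (f := 2) Nat.prime_two hF'
  have h2 := card_sylow_mul (F := F) (p := 7) (f := 2) hF'
  have h3 := two_le_odd (F := F) h20
  have h5 := three_le (F := F)
  rw [hc, hF] at h2
  rw [hF] at h3 h5
  have h6 : {K : Subgroup P2 | Adm K}.ncard ≤ 4503075 := by
    refine h1.trans ?_
    have h7 : (Dn P2 2).ncard * ((Dn P2 2).ncard + (Dn P2 3).ncard) ≤ 1225 * (1225 + 2450) := by gcongr <;> omega
    omega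
  have h7 := index_two h hs (by omega) h6 (i := 1225) (by omega) fun K hK => by
    rcases adm_cases Nat.prime_two hF' ncomm hK with hg | ⟨P, rfl⟩
    · exact hg.mem
    · refine sylow_two h20 ?_ P
      obtain ⟨i, hi⟩ := (FiniteField.isSquare_neg_one_iff (F := F)).2 (by rw [hF]; norm_num)
      exact ⟨i, hi.symm⟩
  omega

end Bound

section Rows

variable {F : Type*} [Field F] [Fintype F]

local notation "P2" => Matrix.ProjectiveSpecialLinearGroup (Fin 2) F

theorem card_aut {p f q : ℕ} [Fact p.Prime] (hf : 1 ≤ f) (hF : Fintype.card F = q) (hq : q = p ^ f) (h4 : 4 ≤ q) :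
    Nat.card (MulAut P2) = f * (q * (q ^ 2 - 1)) := by
  rw [Cfsg.Agent.S0813.result p f hf (hF.trans hq) 2 le_rfl (fun _ => hq ▸ h4), if_pos rfl, one_mul,
    Cfsg.Agent.H394.SqPsl2.card_pgl, hF]

variable {G : Type} [Group G] [Finite G] [IsSimpleGroup G] {H N : Subgroup G} {T : Type} [Group T]
  {e : N ≃* (Fin 1 → T)}

theorem dead (h : EPS H N e) (i : T ≃* P2) {B c : ℕ} (hB : H.index ≤ B) (hc : Nat.card (MulAut P2) = c)
    (hG : B * c < Nat.card G) : False := by
  have h1 : Nat.card H ≤ c := by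
    rw [← hc]
    exact ((hasSoc_of_eps h).congr i).card_le
  have h2 := H.card_mul_index
  have h3 : Nat.card H * H.index ≤ c * B := Nat.mul_le_mul h1 hB
  rw [mul_comm B c] at hG
  omega

/-- row `G₂(5)`, `T = PSL₂(8)` -/
theorem kill_eight (h : EPS H N e) (i : T ≃* P2) (hF : Fintype.card F = 8) (hG : 1049259 * 1512 < Nat.card G) : False := by
  have hp : Fact (Nat.Prime 2) := ⟨Nat.prime_two⟩
  exact dead h i (index_eight (ept_of_eps h) ((hasSoc_of_eps h).congr i) hF)
    (card_aut (p := 2) (f := 3) (by norm_num) hF rfl (by norm_num)) (by simpa using hG)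

/-- row `F₄(2)`, `T = PSL₂(25)` -/
theorem kill_tf (h : EPS H N e) (i : T ≃* P2) (hF : Fintype.card F = 25) (hG : 494746724 * 31200 < Nat.card G) :
    False := by
  have hp : Fact (Nat.Prime 5) := ⟨Nat.prime_five⟩
  exact dead h i (index_tf (ept_of_eps h) ((hasSoc_of_eps h).congr i) hF)
    (card_aut (p := 5) (f := 2) (by norm_num) hF rfl (by norm_num)) (by simpa using hG)

/-- row `F₄(2)`, `T = PSL₂(27)` -/
theorem kill_ts (h : EPS H N e) (i : T ≃* P2) (hF : Fintype.card F = 27) (hG : 843186082 * 58968 < Nat.card G) :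
    False := by
  have hp : Fact (Nat.Prime 3) := ⟨Nat.prime_three⟩
  exact dead h i (index_ts (ept_of_eps h) ((hasSoc_of_eps h).congr i) hF)
    (card_aut (p := 3) (f := 3) (by norm_num) hF rfl (by norm_num)) (by simpa using hG)

/-- row `F₄(2)`, `T = PSL₂(49)` -/
theorem kill_fn (h : EPS H N e) (i : T ≃* P2) (hF : Fintype.card F = 49) (hG : 5516265651 * 235200 < Nat.card G) :
    False := by
  have hp : Fact (Nat.Prime 7) := ⟨by norm_num⟩
  exact dead h i (index_fn (ept_of_eps h) ((hasSoc_of_eps h).congr i) hF)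
    (card_aut (p := 7) (f := 2) (by norm_num) hF rfl (by norm_num)) (by simpa using hG)

/-- the rows `PSL₂(25)`, `PSL₂(27)`, `PSL₂(49)` of `F₄(2)` -/
theorem row_f4_two (hG : Nat.card G = 3311126603366400) (h : EPS H N e) (i : T ≃* P2)
    (hF : Fintype.card F = 25 ∨ Fintype.card F = 27 ∨ Fintype.card F = 49) : False := by
  rcases hF with hF | hF | hF
  · exact kill_tf h i hF (by rw [hG]; norm_num)
  · exact kill_ts h i hF (by rw [hG]; norm_num)
  · exact kill_fn h i hF (by rw [hG]; norm_num)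

/-- the row `PSL₂(8)` of `G₂(5)` -/
theorem row_g2_five (hG : Nat.card G = 5859000000) (h : EPS H N e) (i : T ≃* P2) (hF : Fintype.card F = 8) : False :=
  kill_eight h i hF (by rw [hG]; norm_num)

end Rows

end Cfsg.Agent.H929.TB
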