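import Cfsg.Agent.H929.TB.Count
import Cfsg.Agent.H417.EP.AdmSyl

/-!
# Admissible subgroups of `PSL₂(q)`, `q = p` or `q = p^f`, `f` prime (helper929, paper proof of helper876)

`Good K` : `K` is the normaliser of `⟨a, b⟩` with `a² = 1`, `b² = 1` or `b³ = 1`.
`adm_cases` : an admissible subgroup is good or the normaliser of a Sylow `p`-subgroup.
-/

set_option autoImplicit false
set_option linter.unusedSectionVars false

namespace Cfsg.Agent.H929.TB

open Subgroup Cfsg Matrix
open Cfsg.Agent.BpLin Cfsg.Agent.LieClassical.SLTwoUnipotent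
open Cfsg.Agent.ClassicalGeometry.AutPSL.Root Cfsg.Agent.ClassicalGeometry.AutPSL.Auto
  Cfsg.Agent.ClassicalGeometry.AutPSL.Main
open Cfsg.Agent.H417.EP

section Good

variable {L : Type*} [Group L]

/-- normaliser of a subgroup generated by an involution and an element of order 2 or 3 -/
def Good (K : Subgroup L) : Prop :=
  ∃ a b : L, a ∈ Dn L 2 ∧ (b ∈ Dn L 2 ∨ b ∈ Dn L 3) ∧ K = normalizer ((closure {a, b} : Subgroup L) : Set L)

theorem good_of_char {K : Subgroup L} (hK : Adm K) {X : Type*} [Group X] (e : K ≃* X) {a b : X} (ha : a ∈ Dn X 2)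
    (hb : b ∈ Dn X 2 ∨ b ∈ Dn X 3) (hchar : ∀ φ : MulAut X, ∀ y ∈ closure ({a, b} : Set X), φ y ∈ closure ({a, b} : Set X)) :
    Good K := by
  let f : X →* L := K.subtype.comp e.symm.toMonoidHom
  have hf : Function.Injective f := K.subtype_injective.comp e.symm.injective
  have hfK : ∀ x, f x ∈ K := fun x => (e.symm x).2
  have hD : ∀ (n : ℕ) (x : X), x ∈ Dn X n → f x ∈ Dn L n := by
    intro n x hx
    refine ⟨fun h => hx.1 (hf (by rw [h, map_one])), ?_⟩
    rw [← map_pow, hx.2, map_one]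
  have hcl : closure ({f a, f b} : Set L) = (closure ({a, b} : Set X)).map f := by
    rw [MonoidHom.map_closure, Set.image_pair]
  have hfe : ∀ y : K, f (e y) = y := fun y => by
    show ((e.symm (e y) : K) : L) = y
    rw [MulEquiv.symm_apply_apply]
  refine ⟨f a, f b, hD 2 a ha, hb.imp (hD 2 b) (hD 3 b), ?_⟩
  have hle : closure ({f a, f b} : Set L) ≤ K := by
    rw [hcl]
    rintro _ ⟨x, -, rfl⟩
    exact hfK x
  have hmemc : ∀ y : K, (y : L) ∈ closure ({f a, f b} : Set L) ↔ e y ∈ closure ({a, b} : Set X) := by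
    intro y
    rw [hcl]
    constructor
    · rintro ⟨x, hx, hxy⟩
      have : x = e y := hf (by rw [hfe, hxy])
      rw [← this]
      exact hx
    · intro h
      exact ⟨e y, h, hfe y⟩
  have hch : ∀ φ : MulAut K, ∀ y : K, (y : L) ∈ closure ({f a, f b} : Set L) →
      ((φ y : K) : L) ∈ closure ({f a, f b} : Set L) := by
    intro φ y hy
    rw [hmemc] at hy ⊢
    have h1 := hchar ((e.symm.trans φ).trans e) (e y) hy
    have h2 : ((e.symm.trans φ).trans e) (e y) = e (φ y) := by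
      show e (φ (e.symm (e y))) = e (φ y)
      rw [MulEquiv.symm_apply_apply]
    rw [← h2]
    exact h1
  have hne : closure ({f a, f b} : Set L) ≠ ⊥ := by
    intro h
    have h1 : f a ∈ closure ({f a, f b} : Set L) := subset_closure (Set.mem_insert _ _)
    rw [h, mem_bot] at h1
    exact (hD 2 a ha).1 h1
  apply le_antisymm
  · intro g hg
    have key : ∀ g ∈ K, ∀ x ∈ closure ({f a, f b} : Set L), g * x * g⁻¹ ∈ closure ({f a, f b} : Set L) := by
      intro g hg x hx
      exact hch (MulAut.conj ⟨g, hg⟩) ⟨x, hle hx⟩ hx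
    rw [mem_normalizer_iff]
    intro x
    refine ⟨key g hg x, fun hx => ?_⟩
    have h1 := key g⁻¹ (K.inv_mem hg) _ hx
    have h2 : g⁻¹ * (g * x * g⁻¹) * g⁻¹⁻¹ = x := by group
    rwa [h2] at h1
  · intro g hg
    exact hK.norm _ hle hne hch g fun x hx => (mem_normalizer_iff.1 hg x).1 hx

theorem good_of_top {K : Subgroup L} (hK : Adm K) {X : Type*} [Group X] (e : K ≃* X) {a b : X} (ha : a ∈ Dn X 2)
    (hb : b ∈ Dn X 2 ∨ b ∈ Dn X 3) (htop : closure ({a, b} : Set X) = ⊤) : Good K :=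
  good_of_char hK e ha hb fun _ _ _ => by rw [htop]; exact mem_top _

theorem Good.mem {K : Subgroup L} (h : Good K) : ∃ a ∈ K, a ∈ Dn L 2 := by
  obtain ⟨a, b, ha, -, rfl⟩ := h
  exact ⟨a, le_normalizer (subset_closure (Set.mem_insert _ _)), ha⟩

theorem good_dihedral {K : Subgroup L} (hK : Adm K) {k : ℕ} (e : K ≃* DihedralGroup k) : Good K := by
  have hsr : ∀ i : ZMod k, DihedralGroup.sr i ∈ Dn (DihedralGroup k) 2 := fun i =>
    ⟨fun h => by (rw [DihedralGroup.one_def] at h; exact nomatch h), by rw [sq, DihedralGroup.sr_mul_self]⟩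
  refine good_of_top hK e (a := DihedralGroup.sr 0) (b := DihedralGroup.sr 1) (hsr 0) (Or.inl (hsr 1)) ?_
  set C := closure ({DihedralGroup.sr 0, DihedralGroup.sr 1} : Set (DihedralGroup k)) with hC
  have h0 : DihedralGroup.sr (0 : ZMod k) ∈ C := subset_closure (Set.mem_insert _ _)
  have h1 : DihedralGroup.sr (1 : ZMod k) ∈ C := subset_closure (Set.mem_insert_of_mem _ rfl)
  have hr1 : DihedralGroup.r (1 : ZMod k) ∈ C := by
    have := C.mul_mem h0 h1
    rwa [DihedralGroup.sr_mul_sr, sub_zero] at this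
  have hr : ∀ i : ZMod k, DihedralGroup.r i ∈ C := by
    intro i
    obtain ⟨z, rfl⟩ := ZMod.intCast_surjective i
    rw [← DihedralGroup.r_one_zpow]
    exact C.zpow_mem hr1 z
  rw [eq_top_iff]
  rintro (i | i) -
  · exact hr i
  · have := C.mul_mem h0 (hr i)
    rwa [DihedralGroup.sr_mul_r, zero_add] at this

/-- the subgroup generated by two commuting involutions, given by a characteristic property -/
theorem char_of_prop {X : Type*} [Group X] {a b : X} (C : X → Prop) (hC : ∀ (φ : MulAut X) (x : X), C x → C (φ x))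
    (h : ∀ x, x ∈ closure ({a, b} : Set X) ↔ C x) (φ : MulAut X) (y : X) (hy : y ∈ closure ({a, b} : Set X)) :
    φ y ∈ closure ({a, b} : Set X) := (h _).2 (hC φ y ((h y).1 hy))

theorem mem_closure_pair_of {X : Type*} [Group X] {a b : X} {C : X → Prop} (h1 : ∀ x, C x → x = 1 ∨ x = a ∨ x = b ∨ x = a * b)
    (ha : a * a = 1) (hb : b * b = 1) (hab : a * b = b * a) (c1 : C 1) (ca : C a) (cb : C b) (cab : C (a * b)) (x : X) :
    x ∈ closure ({a, b} : Set X) ↔ C x := by
  have hA : a ∈ closure ({a, b} : Set X) := subset_closure (Set.mem_insert _ _)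
  have hB : b ∈ closure ({a, b} : Set X) := subset_closure (Set.mem_insert_of_mem _ rfl)
  constructor
  · intro hx
    have hai : a⁻¹ = a := inv_eq_of_mul_eq_one_right ha
    have hbi : b⁻¹ = b := inv_eq_of_mul_eq_one_right hb
    have h3 : a * b * a = b := by rw [mul_assoc, ← hab, ← mul_assoc, ha, one_mul]
    let V : Subgroup X :=
      { carrier := {x | x = 1 ∨ x = a ∨ x = b ∨ x = a * b}
        one_mem' := Or.inl rfl
        mul_mem' := by
          rintro x y (rfl | rfl | rfl | rfl) (rfl | rfl | rfl | rfl)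
          · left; rw [one_mul]
          · right; left; rw [one_mul]
          · right; right; left; rw [one_mul]
          · right; right; right; rw [one_mul]
          · right; left; rw [mul_one]
          · left; exact ha
          · right; right; right; rfl
          · right; right; left; rw [← mul_assoc, ha, one_mul]
          · right; right; left; rw [mul_one]
          · right; right; right; exact hab.symm
          · left; exact hb
          · right; left; rw [hab, ← mul_assoc, hb, one_mul]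
          · right; right; right; rw [mul_one]
          · right; right; left; exact h3
          · right; left; rw [mul_assoc, hb, mul_one]
          · left; rw [← mul_assoc, h3, hb]
        inv_mem' := by
          rintro x (rfl | rfl | rfl | rfl)
          · left; exact inv_one
          · right; left; exact hai
          · right; right; left; exact hbi
          · right; right; right; rw [_root_.mul_inv_rev, hai, hbi, hab] }
    have h2 : closure ({a, b} : Set X) ≤ V := by
      rw [closure_le]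
      rintro x (rfl | rfl)
      · exact Or.inr (Or.inl rfl)
      · exact Or.inr (Or.inr (Or.inl rfl))
    rcases h2 hx with h | h | h | h
    · rw [h]; exact c1
    · rw [h]; exact ca
    · rw [h]; exact cb
    · rw [h]; exact cab
  · intro hx
    rcases h1 x hx with h | h | h | h
    · rw [h]; exact one_mem _
    · rw [h]; exact hA
    · rw [h]; exact hB
    · rw [h]; exact mul_mem hA hB

set_option synthInstance.maxHeartbeats 400000 in
set_option synthInstance.maxSize 4096 in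
theorem good_a4 {K : Subgroup L} (hK : Adm K) (e : K ≃* alternatingGroup (Fin 4)) : Good K := by
  obtain ⟨a, b, h1, h2, h3, h4, h5, h6⟩ : ∃ a b : alternatingGroup (Fin 4), a ≠ 1 ∧ b ≠ 1 ∧ a * a = 1 ∧ b * b = 1 ∧
      a * b = b * a ∧ ∀ x : alternatingGroup (Fin 4), x * x = 1 → x = 1 ∨ x = a ∨ x = b ∨ x = a * b := by
    decide +kernel
  refine good_of_char hK e (a := a) (b := b) ⟨h1, by rw [sq, h3]⟩ (Or.inl ⟨h2, by rw [sq, h4]⟩)
    (char_of_prop (fun x => x * x = 1) (fun φ x hx => by rw [← map_mul, hx, map_one]) ?_)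
  exact mem_closure_pair_of h6 h3 h4 h5 (one_mul 1) h3 h4
    (by rw [mul_assoc, ← mul_assoc b, ← h5, mul_assoc, h4, mul_one, h3])

set_option synthInstance.maxHeartbeats 400000 in
set_option synthInstance.maxSize 4096 in
theorem good_s4 {K : Subgroup L} (hK : Adm K) (e : K ≃* Equiv.Perm (Fin 4)) : Good K := by
  obtain ⟨a, b, h1, h2, h3, h4, h5, ⟨c, hc⟩, ⟨d, hd⟩, ⟨f, hf⟩, h6⟩ : ∃ a b : Equiv.Perm (Fin 4), a ≠ 1 ∧ b ≠ 1 ∧
      a * a = 1 ∧ b * b = 1 ∧ a * b = b * a ∧ (∃ y, y * y = a) ∧ (∃ y, y * y = b) ∧ (∃ y, y * y = a * b) ∧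
      ∀ x : Equiv.Perm (Fin 4), (x * x = 1 ∧ ∃ y, y * y = x) → x = 1 ∨ x = a ∨ x = b ∨ x = a * b := by
    decide +kernel
  refine good_of_char hK e (a := a) (b := b) ⟨h1, by rw [sq, h3]⟩ (Or.inl ⟨h2, by rw [sq, h4]⟩)
    (char_of_prop (fun x => x * x = 1 ∧ ∃ y, y * y = x) (fun φ x hx => ?_) ?_)
  · obtain ⟨hx, y, rfl⟩ := hx
    exact ⟨by rw [← map_mul, hx, map_one], φ y, by rw [← map_mul]⟩
  exact mem_closure_pair_of h6 h3 h4 h5 ⟨one_mul 1, 1, one_mul 1⟩ ⟨h3, c, hc⟩ ⟨h4, d, hd⟩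
    ⟨by rw [mul_assoc, ← mul_assoc b, ← h5, mul_assoc, h4, mul_one, h3], f, hf⟩

theorem good_a5 {K : Subgroup L} (hK : Adm K) (e : K ≃* alternatingGroup (Fin 5)) : Good K := by
  obtain ⟨a, b, h1, h2, h3, h4, h5, h6⟩ : ∃ a b : alternatingGroup (Fin 5), a ≠ 1 ∧ a ^ 2 = 1 ∧ b ≠ 1 ∧ b ^ 3 = 1 ∧
      a * b ≠ 1 ∧ (a * b) ^ 5 = 1 := by
    decide +kernel
  refine good_of_top hK e (a := a) (b := b) ⟨h1, h2⟩ (Or.inr ⟨h3, h4⟩) ?_
  set H := closure ({a, b} : Set (alternatingGroup (Fin 5))) with hH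
  have ha : a ∈ H := subset_closure (Set.mem_insert _ _)
  have hb : b ∈ H := subset_closure (Set.mem_insert_of_mem _ rfl)
  have hs : IsSimpleGroup (alternatingGroup (Fin 5)) := alternatingGroup.isSimpleGroup (by simp)
  have hc : Nat.card (alternatingGroup (Fin 5)) = 60 := by
    rw [Nat.card_eq_fintype_card]
    decide +kernel
  have ho : ∀ (y : alternatingGroup (Fin 5)) (n : ℕ), n.Prime → y ≠ 1 → y ^ n = 1 → y ∈ H → n ∣ Nat.card H := by
    intro y n hn hy hy' hyH
    have : Fact n.Prime := ⟨hn⟩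
    rw [← orderOf_eq_prime hy' hy]
    exact Subgroup.orderOf_dvd_natCard H hyH
  have k2 := ho _ 2 Nat.prime_two h1 h2 ha
  have k3 := ho _ 3 Nat.prime_three h3 h4 hb
  have k5 := ho _ 5 Nat.prime_five h5 h6 (H.mul_mem ha hb)
  have hmul := H.card_mul_index
  rw [hc] at hmul
  have h30 : 30 ∣ Nat.card H := by omega
  obtain ⟨k, hk⟩ := h30
  rw [hk] at hmul
  have hidx : H.index = 1 ∨ H.index = 2 := by
    have h3 : k * H.index = 2 := by nlinarith
    have h4 : H.index ∣ 2 := ⟨k, by rw [← h3, mul_comm]⟩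
    exact (Nat.dvd_prime Nat.prime_two).1 h4
  rcases hidx with h | h
  · exact Subgroup.index_eq_one.1 h
  · have hn := Subgroup.normal_of_index_eq_two h
    rcases hn.eq_bot_or_eq_top with h5 | h5
    · exfalso
      rw [h5, Subgroup.index_bot, hc] at h
      omega
    · exact h5

end Good

section Field

variable {K₀ : Type*} [Field K₀] [Fintype K₀]

/-- The Weyl element `!![0, -1; 1, 0]`. -/
def w0 : SpecialLinearGroup (Fin 2) K₀ := ⟨!![0, -1; 1, 0], by simp⟩

/-- `!![0, -1; 1, 1]` -/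
def b0 : SpecialLinearGroup (Fin 2) K₀ := ⟨!![0, -1; 1, 1], by simp⟩

theorem w0_sq : (w0 : SpecialLinearGroup (Fin 2) K₀) ^ 2 = -1 := by
  apply Subtype.ext
  rw [Matrix.SpecialLinearGroup.coe_pow, sq]
  ext i j
  fin_cases i <;> fin_cases j <;> simp [w0, Matrix.mul_apply, Fin.sum_univ_two]

theorem b0_cube : (b0 : SpecialLinearGroup (Fin 2) K₀) ^ 3 = -1 := by
  apply Subtype.ext
  rw [Matrix.SpecialLinearGroup.coe_pow, pow_succ, sq]
  ext i j
  fin_cases i <;> fin_cases j <;> simp [b0, Matrix.mul_apply, Fin.sum_univ_two]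

theorem b0_eq : (b0 : SpecialLinearGroup (Fin 2) K₀) = w0 * u 1 := by
  apply Subtype.ext
  rw [Matrix.SpecialLinearGroup.coe_mul, coe_u]
  ext i j
  fin_cases i <;> fin_cases j <;> simp [b0, w0, Matrix.mul_apply, Fin.sum_univ_two]

theorem w0_conj (x : K₀) : (w0 : SpecialLinearGroup (Fin 2) K₀) * u x = l (-x) * w0 := by
  apply Subtype.ext
  rw [Matrix.SpecialLinearGroup.coe_mul, Matrix.SpecialLinearGroup.coe_mul, coe_u, coe_l]
  ext i j
  fin_cases i <;> fin_cases j <;> simp [w0, Matrix.mul_apply, Fin.sum_univ_two]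

/-- `SL₂(p) = ⟨w0, b0⟩` -/
theorem closure_eq_top {p : ℕ} (hp : p.Prime) (hc : Fintype.card K₀ = p) :
    closure ({w0, b0} : Set (SpecialLinearGroup (Fin 2) K₀)) = ⊤ := by
  set C := closure ({w0, b0} : Set (SpecialLinearGroup (Fin 2) K₀)) with hC
  have hw : w0 ∈ C := subset_closure (Set.mem_insert _ _)
  have hb : b0 ∈ C := subset_closure (Set.mem_insert_of_mem _ rfl)
  have hu1 : u (1 : K₀) ∈ C := by
    have h := C.mul_mem (C.inv_mem hw) hb
    rwa [b0_eq, inv_mul_cancel_left] at h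
  have hun : ∀ n : ℤ, u ((n : K₀)) ∈ C := by
    have hn : ∀ n : ℕ, u ((n : K₀)) ∈ C := by
      intro n
      induction n with
      | zero => rw [Nat.cast_zero, u_zero]; exact one_mem _
      | succ n ih => rw [Nat.cast_succ, u_add]; exact C.mul_mem ih hu1
    intro n
    rcases Int.eq_nat_or_neg n with ⟨m, rfl | rfl⟩
    · rw [Int.cast_natCast]; exact hn m
    · rw [Int.cast_neg, Int.cast_natCast, u_neg]; exact C.inv_mem (hn m)
  have hsurj : ∀ x : K₀, ∃ n : ℤ, (n : K₀) = x := by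
    intro x
    have : Fact p.Prime := ⟨hp⟩
    have h1 : AddSubgroup.zmultiples (1 : K₀) = ⊤ :=
      zmultiples_eq_top_of_prime_card (p := p) (by rw [Nat.card_eq_fintype_card, hc]) one_ne_zero
    have h2 : x ∈ AddSubgroup.zmultiples (1 : K₀) := by rw [h1]; exact AddSubgroup.mem_top x
    obtain ⟨n, hn⟩ := AddSubgroup.mem_zmultiples_iff.1 h2
    refine ⟨n, ?_⟩
    rw [← hn, zsmul_eq_mul, mul_one]
  have hu : ∀ x : K₀, u x ∈ C := by
    intro x
    obtain ⟨n, rfl⟩ := hsurj x
    exact hun n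
  refine eq_top_of_u_mem_of_l_mem C hu fun x => ?_
  have h1 := w0_conj (-x)
  rw [neg_neg] at h1
  have h2 : l x = w0 * u (-x) * w0⁻¹ := by rw [h1, mul_inv_cancel_right]
  rw [h2]
  exact C.mul_mem (C.mul_mem hw (hu _)) (C.inv_mem hw)

theorem u_pow_card (x : K₀) {p : ℕ} [CharP K₀ p] : (u x : SpecialLinearGroup (Fin 2) K₀) ^ p = 1 :=
  Cfsg.Agent.H947.Sy.u_pow x

theorem l_pow_card (x : K₀) {p : ℕ} [CharP K₀ p] : (l x : SpecialLinearGroup (Fin 2) K₀) ^ p = 1 := by
  have h1 := w0_conj (-x)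
  rw [neg_neg] at h1
  have h2 : l x = w0 * u (-x) * w0⁻¹ := by rw [h1, mul_inv_cancel_right]
  rw [h2, conj_pow, u_pow_card, mul_one, mul_inv_cancel]

theorem good_field {L : Type*} [Group L] {K : Subgroup L} (hK : Adm K) {p : ℕ} (hp : p.Prime) (hc : Fintype.card K₀ = p)
    {X : Type*} [Group X] (e : K ≃* X) (π : SpecialLinearGroup (Fin 2) K₀ →* X)
    (hker : ∀ A, π A = 1 ↔ A 0 1 = 0 ∧ A 1 0 = 0 ∧ A 0 0 = A 1 1)
    (hch : ∀ y : X, y ^ p = 1 → y ∈ π.range) : Good K := by
  have : Fact p.Prime := ⟨hp⟩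
  have : CharP K₀ p := charP_of_card_eq_prime hc
  have hneg : π (-1) = 1 := by
    rw [hker]
    refine ⟨?_, ?_, ?_⟩ <;> simp
  have hcl : closure ({π w0, π b0} : Set X) = π.range := by
    rw [← Set.image_pair, ← MonoidHom.map_closure, closure_eq_top hp hc, ← MonoidHom.range_eq_map]
  refine good_of_char hK e (a := π w0) (b := π b0) ⟨?_, ?_⟩ (Or.inr ⟨?_, ?_⟩) ?_
  · rw [Ne, hker]
    rintro ⟨h, -, -⟩
    simp [w0] at h
  · rw [← map_pow, w0_sq, hneg]
  · rw [Ne, hker]
    rintro ⟨h, -, -⟩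
    simp [b0] at h
  · rw [← map_pow, b0_cube, hneg]
  · intro φ y hy
    rw [hcl] at hy ⊢
    obtain ⟨s, rfl⟩ := hy
    have h1 : (⊤ : Subgroup (SpecialLinearGroup (Fin 2) K₀)) ≤ (π.range).comap (φ.toMonoidHom.comp π) := by
      refine le_of_eq (eq_top_of_u_mem_of_l_mem _ (fun x => ?_) (fun x => ?_)).symm
      · apply hch
        show (φ (π (u x))) ^ p = 1
        rw [← map_pow, ← map_pow, u_pow_card, map_one, map_one]
      · apply hch
        show (φ (π (l x))) ^ p = 1
        rw [← map_pow, ← map_pow, l_pow_card, map_one, map_one]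
    exact h1 (mem_top s)

theorem good_psl {L : Type*} [Group L] {K : Subgroup L} (hK : Adm K) {p : ℕ} (hp : p.Prime) (hc : Fintype.card K₀ = p)
    (e : K ≃* Matrix.ProjectiveSpecialLinearGroup (Fin 2) K₀) : Good K :=
  good_field hK hp hc e pr pr_one_iff fun y _ => by
    obtain ⟨s, rfl⟩ := pr_surjective y
    exact ⟨s, rfl⟩

theorem good_pgl {L : Type*} [Group L] {K : Subgroup L} (hK : Adm K) {p : ℕ} (hp : p.Prime) (hc : Fintype.card K₀ = p)
    (e : K ≃* Matrix.ProjGenLinGroup (Fin 2) K₀) : Good K := by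
  refine good_field hK hp hc e Matrix.SpecialLinearGroup.toPGL (fun A => ?_) fun y hy => ?_
  · rw [← pr_one_iff, pr_eq_one_iff, ← Matrix.SpecialLinearGroup.toPGL_ker, MonoidHom.mem_ker]
  · obtain ⟨g, rfl⟩ := Matrix.ProjGenLinGroup.mk_surjective y
    rw [← map_pow, Matrix.ProjGenLinGroup.mk_eq_one, Matrix.GeneralLinearGroup.center_eq_range_scalar] at hy
    obtain ⟨r, hr⟩ := hy
    -- `det g = r²`
    have h1 : Matrix.GeneralLinearGroup.det g = r ^ 2 := by
      have h2 : (Matrix.GeneralLinearGroup.det g) ^ p = r ^ 2 := by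
        rw [← map_pow, ← hr]
        ext
        simp
      rw [← h2]
      ext
      rw [Units.val_pow_eq_pow_val, ← hc, FiniteField.pow_card]
    have h3' : (((r⁻¹ : K₀ˣ) : K₀) • (g : Matrix (Fin 2) (Fin 2) K₀)).det = 1 := by
      rw [Matrix.det_smul, Fintype.card_fin]
      have h3 : (g : Matrix (Fin 2) (Fin 2) K₀).det = ((r ^ 2 : K₀ˣ) : K₀) := by rw [← h1]; rfl
      rw [h3, ← Units.val_pow_eq_pow_val, ← Units.val_mul, inv_pow, inv_mul_cancel, Units.val_one]
    refine ⟨⟨((r⁻¹ : K₀ˣ) : K₀) • (g : Matrix (Fin 2) (Fin 2) K₀), h3'⟩, ?_⟩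
    · show Matrix.ProjGenLinGroup.mk (Matrix.SpecialLinearGroup.toGL _) = _
      rw [Matrix.ProjGenLinGroup.mk_eq_mk_iff]
      refine ⟨r, ?_⟩
      ext i j
      rw [Matrix.GeneralLinearGroup.coe_mul, Matrix.GeneralLinearGroup.coe_scalar]
      have h4 : ((Matrix.SpecialLinearGroup.toGL (⟨((r⁻¹ : K₀ˣ) : K₀) • (g : Matrix (Fin 2) (Fin 2) K₀), h3'⟩ :
        SpecialLinearGroup (Fin 2) K₀) : GL (Fin 2) K₀) : Matrix (Fin 2) (Fin 2) K₀) =
          ((r⁻¹ : K₀ˣ) : K₀) • (g : Matrix (Fin 2) (Fin 2) K₀) := rfl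
      rw [h4, Matrix.smul_mul, Matrix.smul_apply, Matrix.scalar_apply, Matrix.mul_diagonal, smul_eq_mul,
        mul_comm ((g : Matrix (Fin 2) (Fin 2) K₀) i j), ← mul_assoc, ← Units.val_mul, inv_mul_cancel, Units.val_one,
        one_mul]

end Field

section Cases

variable {F : Type*} [Field F] [Fintype F]

local notation "S2" => Matrix.SpecialLinearGroup (Fin 2) F
local notation "P2" => Matrix.ProjectiveSpecialLinearGroup (Fin 2) F

theorem comm_of_cyclic {L : Type*} [Group L] {K : Subgroup L} (h : IsCyclic K) : ∀ a ∈ K, ∀ b ∈ K, a * b = b * a := by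
  intro a ha b hb
  have h1 : (⟨a, ha⟩ : K) * ⟨b, hb⟩ = ⟨b, hb⟩ * ⟨a, ha⟩ := h.isMulCommutative.is_comm.comm _ _
  exact Subtype.ext_iff.1 h1

/-- **the admissible subgroups of `PSL₂(p^f)`, `f` prime or 1** -/
theorem adm_cases {l f : ℕ} [hl : Fact l.Prime] [CharP F l] (hf : f.Prime) (hF : Fintype.card F = l ^ f)
    [IsSimpleGroup P2] (hna : ∃ a b : P2, a * b ≠ b * a) {H : Subgroup P2} (hH : Adm H) :
    Good H ∨ ∃ P : Sylow l P2, normalizer ((P : Subgroup P2) : Set P2) = H := by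
  classical
  have hnc := hH.not_comm hna
  rcases Cfsg.Agent.S0799.result rfl l H with ⟨k, -, hk⟩ | ⟨P, K, hK, ⟨e⟩⟩ | ⟨⟨e⟩⟩ | ⟨⟨e⟩⟩ | ⟨⟨e⟩⟩ | ⟨K, iK, iK', m, hm, he⟩
  · rcases hk with ⟨hc, -⟩ | ⟨⟨e⟩⟩
    · exact absurd (comm_of_cyclic hc) hnc
    · exact Or.inl (good_dihedral hH e)
  · -- subgroups of the Borel subgroup
    right
    let Q' : Subgroup H := ((P : Subgroup P2).subgroupOf K).comap e.toMonoidHom
    have hmemQ : ∀ h : H, h ∈ Q' ↔ ((e h : K) : P2) ∈ (P : Subgroup P2) := fun h => Iff.rfl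
    have hall : ∀ h : H, (∃ k : ℕ, h ^ l ^ k = 1) → h ∈ Q' := by
      rintro h ⟨k, hk⟩
      have h1 : ((e h : K) : P2) ^ l ^ k = 1 := by
        rw [← Subgroup.coe_pow, ← map_pow, hk, map_one]; rfl
      have h2 : IsPGroup l (zpowers ((e h : K) : P2)) := by
        obtain ⟨j, -, hj⟩ := (Nat.dvd_prime_pow (Fact.out : l.Prime)).1 (orderOf_dvd_of_pow_eq_one h1)
        exact IsPGroup.of_card (n := j) (by rw [Nat.card_zpowers, hj])
      have h3 := h2.inf_normalizer_sylow P
      exact (h3.le ⟨mem_zpowers _, hK (e h).2⟩).2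
    have hQ : Q' ≠ ⊥ := by
      intro hQ
      apply hnc
      intro a ha b hb
      have h1 : (⟨a, ha⟩ : H) * ⟨b, hb⟩ * (⟨a, ha⟩ : H)⁻¹ * (⟨b, hb⟩ : H)⁻¹ ∈ Q' := by
        apply hall
        obtain ⟨k, hk⟩ := Cfsg.Agent.H947.Sy.commutator_mem P (hK (e ⟨a, ha⟩).2) (hK (e ⟨b, hb⟩).2)
        refine ⟨k, e.injective ?_⟩
        apply Subtype.ext
        rw [map_pow, map_one, Subgroup.coe_pow, Subgroup.coe_one, ← hk]
        simp only [map_mul, map_inv, Subgroup.coe_mul, Subgroup.coe_inv]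
      rw [hQ, mem_bot] at h1
      have h2 : a * b * a⁻¹ * b⁻¹ = 1 := congrArg Subtype.val h1
      calc a * b = (a * b * a⁻¹ * b⁻¹) * (b * a) := by group
        _ = b * a := by rw [h2, one_mul]
    have hne : Q'.map H.subtype ≠ ⊥ := fun h => hQ (by
      rwa [Subgroup.map_eq_bot_iff_of_injective _ H.subtype_injective] at h)
    have hR : ∀ y, y ∈ Q'.map H.subtype ↔ y ∈ H ∧ ∃ k : ℕ, y ^ (l ^ k) = 1 := by
      intro y
      constructor
      · rintro ⟨z, hz, rfl⟩
        refine ⟨z.2, ?_⟩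
        obtain ⟨k, hk⟩ := P.isPGroup' ⟨((e z : K) : P2), hz⟩
        refine ⟨k, ?_⟩
        have h1 : ((e z : K) : P2) ^ l ^ k = 1 := congrArg Subtype.val hk
        have h2 : z ^ l ^ k = 1 := by
          apply e.injective
          apply Subtype.ext
          rw [map_pow, map_one, Subgroup.coe_pow, Subgroup.coe_one, h1]
        exact congrArg Subtype.val h2
      · rintro ⟨hy, k, hk⟩
        exact ⟨⟨y, hy⟩, hall _ ⟨k, Subtype.ext hk⟩, rfl⟩
    obtain ⟨P', hP1, hP2⟩ := hH.sylow (Fact.out : l.Prime) hR hne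
    exact ⟨P', by rw [hP1, hP2]⟩
  · exact Or.inl (good_a4 hH e)
  · exact Or.inl (good_s4 hH e)
  · exact Or.inl (good_a5 hH e)
  · left
    have hKp : Fintype.card K = l ∨ Fintype.card K = Fintype.card F := by
      have h1 : Fintype.card K ∣ l ^ f := by
        rw [← hF, ← hm]
        refine dvd_pow_self _ ?_
        rintro rfl
        rw [pow_zero] at hm
        have := Fintype.one_lt_card (α := F)
        omega
      obtain ⟨j, hj, hj'⟩ := (Nat.dvd_prime_pow hl.out).1 h1
      rw [hj', hF, ← pow_mul] at hm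
      have h2 : j * m = f := Nat.pow_right_injective hl.out.two_le hm
      rcases (Nat.dvd_prime hf).1 ⟨m, h2.symm⟩ with h3 | h3
      · left; rw [hj', h3, pow_one]
      · right; rw [hj', h3, hF]
    rcases hKp with hKp | hKp
    · rcases he with ⟨⟨e⟩⟩ | ⟨⟨e⟩⟩
      · exact good_psl hH hl.out hKp e
      · exact good_pgl hH hl.out hKp e
    · exfalso
      apply hH.ne_top
      apply Subgroup.eq_top_of_le_card
      have hg : 0 < Nat.gcd 2 (Fintype.card F - 1) := Nat.gcd_pos_of_pos_left _ (by norm_num)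
      have h1 := Cfsg.Agent.H394.SqPsl2.card_psl (F := F)
      rcases he with ⟨⟨e⟩⟩ | ⟨⟨e⟩⟩
      · have h2 := Cfsg.Agent.H394.SqPsl2.card_psl (F := K)
        rw [hKp, ← Nat.card_congr e.toEquiv, ← h1] at h2
        exact (Nat.eq_of_mul_eq_mul_left hg h2).ge
      · have h2 := Cfsg.Agent.H394.SqPsl2.card_pgl (F := K)
        rw [hKp, ← Nat.card_congr e.toEquiv, ← h1] at h2
        rw [h2]
        exact Nat.le_mul_of_pos_left _ hg

end Cases

end Cfsg.Agent.H929.TB
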