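import Cfsg.Agent.H947.Sy.Psl2A

/-!
# Elements of order 2 and 3 in `PSL₂(q)` (helper929, paper proof of helper876)

`two_le`, `two_le_odd`, `three_le` : numbers of elements of order dividing 2, 3.
-/

set_option autoImplicit false
set_option linter.unusedSectionVars false

namespace Cfsg.Agent.H929.TB

open Subgroup Cfsg Matrix
open Cfsg.Agent.BpLin Cfsg.Agent.LieClassical.SLTwoUnipotent
open Cfsg.Agent.ClassicalGeometry.AutPSL.Root Cfsg.Agent.ClassicalGeometry.AutPSL.Auto
  Cfsg.Agent.ClassicalGeometry.AutPSL.Main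

/-- the non-trivial elements of order dividing `n` -/
def Dn (G : Type*) [Group G] (n : ℕ) : Set G := {x | x ≠ 1 ∧ x ^ n = 1}

section Count

variable {F : Type*} [Field F]

local notation "S2" => Matrix.SpecialLinearGroup (Fin 2) F
local notation "P2" => Matrix.ProjectiveSpecialLinearGroup (Fin 2) F

theorem pr_one_iff (A : S2) : (pr A : P2) = 1 ↔ A 0 1 = 0 ∧ A 1 0 = 0 ∧ A 0 0 = A 1 1 := by
  rw [pr_eq_one_iff, Matrix.SpecialLinearGroup.mem_center_iff]
  constructor
  · rintro ⟨r, -, h⟩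
    refine ⟨?_, ?_, ?_⟩
    · have := congrFun (congrFun h 0) 1
      simpa using this.symm
    · have := congrFun (congrFun h 1) 0
      simpa using this.symm
    · have h0 := congrFun (congrFun h 0) 0
      have h1 := congrFun (congrFun h 1) 1
      simp at h0 h1
      rw [← h0, ← h1]
  · rintro ⟨h1, h2, h3⟩
    refine ⟨A 0 0, ?_, ?_⟩
    · have hd := A.det_coe
      rw [det_fin_two] at hd
      rw [h1, ← h3] at hd
      simp only [Fintype.card_fin]
      rw [pow_two]
      linear_combination hd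
    · ext i j
      fin_cases i <;> fin_cases j
      · simp
      · simpa using h1.symm
      · simpa using h2.symm
      · simpa using h3

theorem pr_neg (A : S2) : (pr (-A) : P2) = pr A := by
  have h1 : (pr (-1 : S2) : P2) = 1 := by
    rw [pr_one_iff]
    refine ⟨?_, ?_, ?_⟩ <;> simp
  have h2 : -A = (-1) * A := by rw [neg_mul, one_mul]
  rw [h2, map_mul, h1, one_mul]

/-- the elements of trace `t` -/
def Tr (t : F) : Set S2 := {A | A 0 0 + A 1 1 = t}

theorem lift_two {x : P2} (hx : x ∈ Dn P2 2) : ∃ A : S2, A ∈ Tr (0 : F) ∧ (pr A : P2) = x := by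
  obtain ⟨h1, h2⟩ := hx
  obtain ⟨A, rfl⟩ := pr_surjective x
  refine ⟨A, ?_, rfl⟩
  show A 0 0 + A 1 1 = 0
  by_contra ht
  apply h1
  rw [← map_pow, pr_one_iff] at h2
  have m : ∀ i j, (A ^ 2) i j = (A.1 * A.1) i j := by
    intro i j; rw [Matrix.SpecialLinearGroup.coe_pow, pow_two]
  rw [m, m, m, m] at h2
  simp only [Matrix.mul_apply, Fin.sum_univ_two] at h2
  obtain ⟨q1, q2, q3⟩ := h2
  rw [pr_one_iff]
  refine ⟨?_, ?_, ?_⟩
  · have : (A 0 0 + A 1 1) * A 0 1 = 0 := by linear_combination q1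
    exact (mul_eq_zero.1 this).resolve_left ht
  · have : (A 0 0 + A 1 1) * A 1 0 = 0 := by linear_combination q2
    exact (mul_eq_zero.1 this).resolve_left ht
  · have : (A 0 0 + A 1 1) * (A 0 0 - A 1 1) = 0 := by linear_combination q3
    exact sub_eq_zero.1 ((mul_eq_zero.1 this).resolve_left ht)

theorem lift_three {x : P2} (hx : x ∈ Dn P2 3) : ∃ A : S2, A ∈ Tr (1 : F) ∧ (pr A : P2) = x := by
  obtain ⟨h1, h3⟩ := hx
  obtain ⟨A, rfl⟩ := pr_surjective x
  have hd := A.det_coe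
  rw [Matrix.det_fin_two] at hd
  have ht : (A 0 0 + A 1 1) ^ 2 - 1 = 0 := by
    by_contra ht
    apply h1
    rw [← map_pow, pr_one_iff] at h3
    have m : ∀ i j, (A ^ 3) i j = (A.1 * A.1 * A.1) i j := by
      intro i j; rw [Matrix.SpecialLinearGroup.coe_pow, pow_succ, pow_two]
    rw [m, m, m, m] at h3
    simp only [Matrix.mul_apply, Fin.sum_univ_two] at h3
    obtain ⟨q1, q2, q3⟩ := h3
    rw [pr_one_iff]
    refine ⟨?_, ?_, ?_⟩
    · have : ((A 0 0 + A 1 1) ^ 2 - 1) * A 0 1 = 0 := by linear_combination q1 + A 0 1 * hd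
      exact (mul_eq_zero.1 this).resolve_left ht
    · have : ((A 0 0 + A 1 1) ^ 2 - 1) * A 1 0 = 0 := by linear_combination q2 + A 1 0 * hd
      exact (mul_eq_zero.1 this).resolve_left ht
    · have : ((A 0 0 + A 1 1) ^ 2 - 1) * (A 0 0 - A 1 1) = 0 := by
        linear_combination q3 + (A 0 0 - A 1 1) * hd
      exact sub_eq_zero.1 ((mul_eq_zero.1 this).resolve_left ht)
  have ht2 : (A 0 0 + A 1 1 - 1) * (A 0 0 + A 1 1 + 1) = 0 := by linear_combination ht
  rcases mul_eq_zero.1 ht2 with h | h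
  · exact ⟨A, sub_eq_zero.1 h, rfl⟩
  · refine ⟨-A, ?_, pr_neg A⟩
    show (-A.1) 0 0 + (-A.1) 1 1 = 1
    rw [Matrix.neg_apply, Matrix.neg_apply]
    linear_combination -h

variable [Fintype F]

theorem ncard_quad_le (t : F) : {a : F | a * (t - a) = 1}.ncard ≤ 2 := by
  rcases {a : F | a * (t - a) = 1}.eq_empty_or_nonempty with h | ⟨a, ha⟩
  · rw [h, Set.ncard_empty]; exact Nat.zero_le _
  · refine (Set.ncard_le_ncard (t := {a, t - a}) ?_ (Set.toFinite _)).trans (Set.ncard_insert_le _ _ |>.trans ?_)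
    · intro b hb
      have h1 : (b - a) * (b - (t - a)) = 0 := by
        have h2 : a * (t - a) = 1 := ha
        have h3 : b * (t - b) = 1 := hb
        linear_combination h2 - h3
      rcases mul_eq_zero.1 h1 with h2 | h2
      · left; exact sub_eq_zero.1 h2
      · right; exact sub_eq_zero.1 h2
    · rw [Set.ncard_singleton]

theorem ncard_Tr_le (t : F) : (Tr t).ncard ≤ Fintype.card F ^ 2 + Fintype.card F := by
  classical
  have hu : Tr t ⊆ {A : S2 | A ∈ Tr t ∧ A 0 1 ≠ 0} ∪ {A : S2 | A ∈ Tr t ∧ A 0 1 = 0} := by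
    intro A hA
    by_cases h : A 0 1 = 0
    · exact Or.inr ⟨hA, h⟩
    · exact Or.inl ⟨hA, h⟩
  have key : ∀ A B : S2, A ∈ Tr t → B ∈ Tr t → A 0 0 = B 0 0 → A 0 1 = B 0 1 → A 1 0 = B 1 0 → A = B := by
    intro A B hA hB e1 e2 e3
    have hA' : A 0 0 + A 1 1 = t := hA
    have hB' : B 0 0 + B 1 1 = t := hB
    apply Subtype.ext
    ext i j
    fin_cases i <;> fin_cases j
    · exact e1
    · exact e2
    · exact e3
    · show A 1 1 = B 1 1
      linear_combination hA' - hB' - e1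
  have h1 : {A : S2 | A ∈ Tr t ∧ A 0 1 ≠ 0}.ncard ≤ Fintype.card F * (Fintype.card F - 1) := by
    have h2 : ((Finset.univ : Finset F) ×ˢ (Finset.univ.erase (0 : F))).card =
        Fintype.card F * (Fintype.card F - 1) := by
      rw [Finset.card_product, Finset.card_erase_of_mem (Finset.mem_univ _), Finset.card_univ]
    rw [← h2, ← Set.ncard_coe_finset]
    refine Set.ncard_le_ncard_of_injOn (fun A : S2 => (A 0 0, A 0 1)) ?_ ?_ (Finset.finite_toSet _)
    · rintro A ⟨-, hA⟩
      rw [Finset.mem_coe, Finset.mem_product]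
      exact ⟨Finset.mem_univ _, Finset.mem_erase.2 ⟨hA, Finset.mem_univ _⟩⟩
    · rintro A ⟨hA, hA1⟩ B ⟨hB, hB1⟩ e
      simp only [Prod.mk.injEq] at e
      obtain ⟨e1, e2⟩ := e
      refine key A B hA hB e1 e2 ?_
      have hA' : A 0 0 + A 1 1 = t := hA
      have hB' : B 0 0 + B 1 1 = t := hB
      have dA := A.det_coe
      have dB := B.det_coe
      rw [Matrix.det_fin_two] at dA dB
      have h3 : A 0 1 * (A 1 0 - B 1 0) = 0 := by
        have e3 : A 1 1 = B 1 1 := by linear_combination hA' - hB' - e1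
        have dB' : A 0 0 * A 1 1 - A 0 1 * B 1 0 = 1 := by
          rw [e1, e2, e3]
          exact dB
        linear_combination dB' - dA
      exact sub_eq_zero.1 ((mul_eq_zero.1 h3).resolve_left hA1)
  have h2 : {A : S2 | A ∈ Tr t ∧ A 0 1 = 0}.ncard ≤ 2 * Fintype.card F := by
    have h3 : ({a : F | a * (t - a) = 1}.toFinset ×ˢ (Finset.univ : Finset F)).card ≤
        2 * Fintype.card F := by
      rw [Finset.card_product, Finset.card_univ]
      apply Nat.mul_le_mul_right
      have := ncard_quad_le t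
      rwa [← Set.ncard_eq_toFinset_card'] 
    refine le_trans ?_ h3
    rw [← Set.ncard_coe_finset]
    refine Set.ncard_le_ncard_of_injOn (fun A : S2 => (A 0 0, A 1 0)) ?_ ?_ (Finset.finite_toSet _)
    · rintro A ⟨hA, hA1⟩
      rw [Finset.mem_coe, Finset.mem_product, Set.mem_toFinset]
      refine ⟨?_, Finset.mem_univ _⟩
      have dA := A.det_coe
      rw [Matrix.det_fin_two] at dA
      have hA' : A 0 0 + A 1 1 = t := hA
      show A 0 0 * (t - A 0 0) = 1
      rw [hA1] at dA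
      linear_combination dA - A 0 0 * hA'
    · rintro A ⟨hA, hA1⟩ B ⟨hB, hB1⟩ e
      simp only [Prod.mk.injEq] at e
      obtain ⟨e1, e2⟩ := e
      exact key A B hA hB e1 (hA1.trans hB1.symm) e2
  have hq : 1 ≤ Fintype.card F := Fintype.card_pos
  refine (Set.ncard_le_ncard hu (Set.toFinite _)).trans ((Set.ncard_union_le _ _).trans ?_)
  refine (Nat.add_le_add h1 h2).trans ?_
  obtain ⟨c, hc⟩ : ∃ c, Fintype.card F = c + 1 := ⟨_, (Nat.sub_add_cancel hq).symm⟩
  rw [hc, Nat.add_sub_cancel]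
  nlinarith

theorem two_le : (Dn P2 2).ncard ≤ Fintype.card F ^ 2 + Fintype.card F := by
  have h1 : Dn P2 2 ⊆ pr '' (Tr (0 : F)) := fun x hx => by
    obtain ⟨A, hA, e⟩ := lift_two hx
    exact ⟨A, hA, e⟩
  exact (Set.ncard_le_ncard h1 (Set.toFinite _)).trans ((Set.ncard_image_le (Set.toFinite _)).trans (ncard_Tr_le 0))

theorem three_le : (Dn P2 3).ncard ≤ Fintype.card F ^ 2 + Fintype.card F := by
  have h1 : Dn P2 3 ⊆ pr '' (Tr (1 : F)) := fun x hx => by
    obtain ⟨A, hA, e⟩ := lift_three hx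
    exact ⟨A, hA, e⟩
  exact (Set.ncard_le_ncard h1 (Set.toFinite _)).trans ((Set.ncard_image_le (Set.toFinite _)).trans (ncard_Tr_le 1))

theorem two_le_odd (h2 : (2 : F) ≠ 0) : 2 * (Dn P2 2).ncard ≤ Fintype.card F ^ 2 + Fintype.card F := by
  have hex : ∀ x : P2, ∃ A : S2, (x ∈ Dn P2 2 → A ∈ Tr (0 : F)) ∧ (pr A : P2) = x := by
    intro x
    by_cases hx : x ∈ Dn P2 2
    · obtain ⟨A, hA, e⟩ := lift_two hx
      exact ⟨A, fun _ => hA, e⟩
    · obtain ⟨A, e⟩ := pr_surjective x
      exact ⟨A, fun h => absurd h hx, e⟩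
  choose s hs1 hs2 using hex
  have hneg : ∀ A : S2, A ≠ -A := by
    intro A h
    have h3 : ∀ i j, A i j = 0 := by
      intro i j
      have h4 : A i j = (-A) i j := by rw [← h]
      have h5 : (-A) i j = - A i j := rfl
      rw [h5] at h4
      have h6 : (2 : F) * A i j = 0 := by linear_combination h4
      exact (mul_eq_zero.1 h6).resolve_left h2
    have hd := A.det_coe
    rw [Matrix.det_fin_two, h3, h3, h3] at hd
    simp at hd
  have e1 : (s '' Dn P2 2).ncard = (Dn P2 2).ncard :=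
    Set.ncard_image_of_injOn fun x _ y _ e => by rw [← hs2 x, ← hs2 y, e]
  have e2 : ((fun x => -(s x)) '' Dn P2 2).ncard = (Dn P2 2).ncard :=
    Set.ncard_image_of_injOn fun x _ y _ e => by
      have e' : -(s x) = -(s y) := e
      rw [← hs2 x, ← hs2 y, ← pr_neg (s x), ← pr_neg (s y), e']
  have hdis : Disjoint (s '' Dn P2 2) ((fun x => -(s x)) '' Dn P2 2) := by
    rw [Set.disjoint_left]
    rintro _ ⟨x, -, rfl⟩ ⟨y, -, h⟩
    have h' : -(s y) = s x := h
    have h3 : x = y := by rw [← hs2 x, ← h', pr_neg, hs2]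
    rw [h3] at h'
    exact hneg _ h'.symm
  have hsub : (s '' Dn P2 2) ∪ ((fun x => -(s x)) '' Dn P2 2) ⊆ Tr (0 : F) := by
    rintro _ (⟨x, hx, rfl⟩ | ⟨x, hx, rfl⟩)
    · exact hs1 x hx
    · have h3 : (s x) 0 0 + (s x) 1 1 = 0 := hs1 x hx
      show (-(s x).1) 0 0 + (-(s x).1) 1 1 = 0
      rw [Matrix.neg_apply, Matrix.neg_apply]
      linear_combination -h3
  have h3 := Set.ncard_le_ncard hsub (Set.toFinite _)
  rw [Set.ncard_union_eq hdis (Set.toFinite _) (Set.toFinite _), e1, e2] at h3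
  have h4 := ncard_Tr_le (0 : F)
  omega

end Count

end Cfsg.Agent.H929.TB
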