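import Cfsg.Agent.ClassificationK.GTwoChev
import Cfsg.Agent.ChevalleyStructure.Good
import Cfsg.Agent.H357.EP.Signs

/-!
# Faithful representations of `G₂(q)`, `q` even, in odd characteristic (helper929)

* `card_le` : `q ^ 3 ≤ 2 n` for every injective `G₂(q) →* GL_n(k)`, `q` even, `2 ≠ 0` in `k`.

Proof: `A = X₉ X₁₀ X₁₁` is elementary abelian of order `q ^ 3`; a sign character `μ` of `A` in the representation, not
trivial on `X₁₁`; the sum of `β μ`, `β = n - 2 rank`, over `A` is a multiple of `q ^ 3`, it is positive, and it equals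
`n - β(z)`, `z` a long root involution.
-/

set_option autoImplicit false
set_option linter.unusedSectionVars false

namespace Cfsg.Agent.H929.TB.G2Dim

open Cfsg Cfsg.Lie
open Cfsg.Agent.ChevalleyStructure.LaurentWord
open Cfsg.Agent.ChevalleyStructure.LaurentNH
open Cfsg.Agent.ClassificationK.GTwoChev Cfsg.Agent.ChevalleyStructure.SL2Hom

theorem ck_comm : (([(9,10),(9,11),(10,11),(8,10),(8,11),(6,11),(5,10)] : List (ℕ × ℕ)).all fun p =>
      checkEq 14 12 (col chevG2) [(p.1, 1, 1, 0), (p.2, 1, 0, 1)] [(p.2, 1, 0, 1), (p.1, 1, 1, 0)]) = true := by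
  decide +kernel

theorem ck_eight : checkEq 14 12 (col chevG2) [(8,1,1,0),(9,1,0,1)] [(9,1,0,1),(11,3,1,1),(8,1,1,0)] = true := by
  decide +kernel

theorem ck_six : checkEq 14 12 (col chevG2) [(6,1,1,0),(10,1,0,1)] [(10,1,0,1),(11,1,1,1),(6,1,1,0)] = true := by
  decide +kernel

theorem ck_five : checkEq 14 12 (col chevG2) [(5,1,1,0),(11,1,0,1)] [(11,1,0,1),(10,1,1,1),(5,1,1,0)] = true := by
  decide +kernel

section

variable {F : Type*} [Field F]

/-- the root elements of the group -/
noncomputable def X (r : ℕ) (hr : r < chevG2.nroots) (t : F) : ↥(chevG2.group F) := ph r hr F (up t)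

theorem mat_X (r : ℕ) (hr : r < chevG2.nroots) (t : F) : mat (X r hr t) = chevG2.x F r t := mat_up r hr t

theorem X_add (r : ℕ) (hr : r < chevG2.nroots) (t u : F) : X r hr (t + u) = X r hr t * X r hr u := by
  unfold X
  rw [← map_mul]
  congr 1
  apply Subtype.ext
  change (!![1, t + u; 0, 1] : Matrix (Fin 2) (Fin 2) F) = !![1, t; 0, 1] * !![1, u; 0, 1]
  rw [Matrix.mul_fin_two]
  simp [add_comm]

theorem X_zero (r : ℕ) (hr : r < chevG2.nroots) : X r hr (0 : F) = 1 := by
  apply mat_injective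
  rw [mat_X, mat_one]
  exact x_zero _ r

theorem X_eq_one {r : ℕ} {hr : r < chevG2.nroots} {t : F} (h : X r hr t = 1) : t = 0 := by
  have h1 := congrArg mat h
  rw [mat_X, mat_one] at h1
  exact Cfsg.Agent.ChevalleyStructure.Good.eq_zero_of_x_eq_one r hr
    (Cfsg.Agent.ChevalleyStructure.Good.goodAt_of_mem chevG2 (by simp) r hr) t h1

theorem X_comm {r s : ℕ} (hr : r < chevG2.nroots) (hs : s < chevG2.nroots)
    (h : (r, s) ∈ ([(9,10),(9,11),(10,11),(8,10),(8,11),(6,11),(5,10)] : List (ℕ × ℕ))) (t u : F) :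
    X r hr t * X s hs u = X s hs u * X r hr t := by
  apply mat_injective
  rw [mat_mul, mat_mul, mat_X, mat_X]
  exact x_comm_of_check chevG2 colsOK (List.all_eq_true.1 ck_comm _ h) t u

theorem h5 : 5 < chevG2.nroots := by decide
theorem h6 : 6 < chevG2.nroots := by decide
theorem h8 : 8 < chevG2.nroots := by decide
theorem h9 : 9 < chevG2.nroots := by decide
theorem h10 : 10 < chevG2.nroots := by decide
theorem h11 : 11 < chevG2.nroots := by decide

local notation "xe" => X 8 h8
local notation "xz" => X 9 h9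
local notation "xa" => X 10 h10
local notation "xb" => X 11 h11
local notation "xc" => X 6 h6
local notation "xd" => X 5 h5

theorem za (t u : F) : xz t * xa u = xa u * xz t := X_comm _ _ (by decide) t u
theorem zb (t u : F) : xz t * xb u = xb u * xz t := X_comm _ _ (by decide) t u
theorem ab (t u : F) : xa t * xb u = xb u * xa t := X_comm _ _ (by decide) t u
theorem ea (t u : F) : xe t * xa u = xa u * xe t := X_comm _ _ (by decide) t u
theorem eb (t u : F) : xe t * xb u = xb u * xe t := X_comm _ _ (by decide) t u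
theorem cb (t u : F) : xc t * xb u = xb u * xc t := X_comm _ _ (by decide) t u
theorem da (t u : F) : xd t * xa u = xa u * xd t := X_comm _ _ (by decide) t u

theorem ez (t u : F) : xe t * xz u = xz u * xb (3 * (t * u)) * xe t := by
  by_cases ht : t = 0
  · rw [ht, zero_mul, mul_zero, X_zero, X_zero, one_mul, mul_one, mul_one]
  by_cases hu : u = 0
  · rw [hu, mul_zero, mul_zero, X_zero, X_zero, one_mul, mul_one, one_mul]
  apply mat_injective
  have h1 := wordMat_eq_of_checkEq chevG2 colsOK ht hu ck_eight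
  simp only [evW, List.map_cons, List.map_nil, ChevalleyDatum.wordMat, List.prod_cons, List.prod_nil,
      mul_one, evM_u, evM_t] at h1
  rw [mat_mul, mat_mul, mat_mul, mat_X, mat_X, mat_X, h1, ← mul_assoc]
  congr 3
  simp [evM, mul_assoc]

theorem ca (t u : F) : xc t * xa u = xa u * xb (t * u) * xc t := by
  by_cases ht : t = 0
  · rw [ht, zero_mul, X_zero, X_zero, one_mul, mul_one, mul_one]
  by_cases hu : u = 0
  · rw [hu, mul_zero, X_zero, X_zero, one_mul, mul_one, one_mul]
  apply mat_injective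
  have h1 := wordMat_eq_of_checkEq chevG2 colsOK ht hu ck_six
  simp only [evW, List.map_cons, List.map_nil, ChevalleyDatum.wordMat, List.prod_cons, List.prod_nil,
      mul_one, evM_u, evM_t] at h1
  rw [mat_mul, mat_mul, mat_mul, mat_X, mat_X, mat_X, h1, ← mul_assoc]
  congr 3
  simp [evM]

theorem db (t u : F) : xd t * xb u = xb u * xa (t * u) * xd t := by
  by_cases ht : t = 0
  · rw [ht, zero_mul, X_zero, X_zero, one_mul, mul_one, mul_one]
  by_cases hu : u = 0
  · rw [hu, mul_zero, X_zero, X_zero, one_mul, mul_one, one_mul]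
  apply mat_injective
  have h1 := wordMat_eq_of_checkEq chevG2 colsOK ht hu ck_five
  simp only [evW, List.map_cons, List.map_nil, ChevalleyDatum.wordMat, List.prod_cons, List.prod_nil,
      mul_one, evM_u, evM_t] at h1
  rw [mat_mul, mat_mul, mat_mul, mat_X, mat_X, mat_X, h1, ← mul_assoc]
  congr 3
  simp [evM]

theorem conj_c (u t s : F) : xc u * (xa t * xb s) * (xc u)⁻¹ = xa t * xb (s + u * t) := by
  rw [mul_inv_eq_iff_eq_mul, ← mul_assoc, ca, mul_assoc (xa t * xb (u * t)), cb, ← mul_assoc, add_comm s, X_add,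
    ← mul_assoc (xa t)]

theorem conj_d (u t s : F) : xd u * (xa t * xb s) * (xd u)⁻¹ = xa (t + u * s) * xb s := by
  rw [mul_inv_eq_iff_eq_mul, ab, ← mul_assoc, db, mul_assoc (xb s * xa (u * s)), da, ← mul_assoc, add_comm t, X_add,
    mul_assoc (xa (u * s)) (xa t), ab t s, ← mul_assoc (xa (u * s)), ab (u * s) s]

theorem conj_e (s u v w : F) : xe s * (xz u * (xa v * xb w)) * (xe s)⁻¹ = xz u * (xa v * xb (w + 3 * (s * u))) := by
  rw [mul_inv_eq_iff_eq_mul]
  calc xe s * (xz u * (xa v * xb w)) = (xe s * xz u) * (xa v * xb w) := by simp only [mul_assoc]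
    _ = xz u * xb (3 * (s * u)) * ((xe s * xa v) * xb w) := by rw [ez]; simp only [mul_assoc]
    _ = xz u * xb (3 * (s * u)) * (xa v * (xe s * xb w)) := by rw [ea]; simp only [mul_assoc]
    _ = xz u * ((xb (3 * (s * u)) * xa v) * xb w) * xe s := by rw [eb]; simp only [mul_assoc]
    _ = xz u * (xa v * (xb (3 * (s * u)) * xb w)) * xe s := by rw [← ab]; simp only [mul_assoc]
    _ = _ := by rw [← X_add, add_comm w]

theorem isConj_one {t s : F} (h : ¬ (t = 0 ∧ s = 0)) : IsConj (xa (1 : F) * xb 1) (xa t * xb s) := by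
  have h1 : ∀ t s s' : F, t ≠ 0 → IsConj (xa t * xb s) (xa t * xb s') := by
    intro t s s' ht
    refine isConj_iff.2 ⟨xc ((s' - s) / t), ?_⟩
    rw [conj_c]
    congr 2
    field_simp
    ring
  have h2 : ∀ t t' s : F, s ≠ 0 → IsConj (xa t * xb s) (xa t' * xb s) := by
    intro t t' s hs
    refine isConj_iff.2 ⟨xd ((t' - t) / s), ?_⟩
    rw [conj_d]
    congr 2
    field_simp
    ring
  by_cases ht : t = 0
  · have hs : s ≠ 0 := fun hs => h ⟨ht, hs⟩
    exact (h1 1 1 s one_ne_zero).trans (h2 1 t s hs)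
  · exact (h2 1 t 1 one_ne_zero).trans (h1 t 1 s ht)

theorem isConj_w (h3 : (3 : F) ≠ 0) {u : F} (hu : u ≠ 0) (v w w' : F) :
    IsConj (xz u * (xa v * xb w)) (xz u * (xa v * xb w')) := by
  refine isConj_iff.2 ⟨xe ((w' - w) / (3 * u)), ?_⟩
  rw [conj_e]
  congr 3
  field_simp
  ring

/-- the homomorphism onto `A` -/
noncomputable def ah (F : Type*) [Field F] : Multiplicative (F × F × F) →* ↥(chevG2.group F) where
  toFun p := xz (Multiplicative.toAdd p).1 * (xa (Multiplicative.toAdd p).2.1 * xb (Multiplicative.toAdd p).2.2)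
  map_one' := by
    show xz (0 : F) * (xa (0 : F) * xb 0) = 1
    rw [X_zero, X_zero, X_zero, one_mul, one_mul]
  map_mul' p p' := by
    obtain ⟨u, t, s⟩ := p
    obtain ⟨u', t', s'⟩ := p'
    show xz (u + u') * (xa (t + t') * xb (s + s')) = (xz u * (xa t * xb s)) * (xz u' * (xa t' * xb s'))
    have e1 : (xa t * xb s) * xz u' = xz u' * (xa t * xb s) := by
      rw [mul_assoc, ← zb, ← mul_assoc, ← za, mul_assoc]
    have e2 : (xz u * (xa t * xb s)) * (xz u' * (xa t' * xb s')) =
        (xz u * xz u') * ((xa t * xb s) * (xa t' * xb s')) := by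
      calc (xz u * (xa t * xb s)) * (xz u' * (xa t' * xb s')) = xz u * ((xa t * xb s) * xz u') * (xa t' * xb s') := by
            simp only [mul_assoc]
        _ = xz u * (xz u' * (xa t * xb s)) * (xa t' * xb s') := by rw [e1]
        _ = _ := by simp only [mul_assoc]
    have e3 : (xa t * xb s) * (xa t' * xb s') = (xa t * xa t') * (xb s * xb s') := by
      calc (xa t * xb s) * (xa t' * xb s') = xa t * (xb s * xa t') * xb s' := by simp only [mul_assoc]
        _ = xa t * (xa t' * xb s) * xb s' := by rw [← ab]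
        _ = _ := by simp only [mul_assoc]
    rw [e2, e3, X_add, X_add, X_add]

end

section main

variable {F : Type*} [Field F] [Fintype F] {k : Type*} [Field k] {ι : Type*} [Fintype ι] [DecidableEq ι]

theorem rank_conj {g h : GL ι k} (hgh : IsConj g h) :
    ((g : Matrix ι ι k) - 1).rank = ((h : Matrix ι ι k) - 1).rank := by
  obtain ⟨x, rfl⟩ := isConj_iff.1 hgh
  have h4 : ((x * g * x⁻¹ : GL ι k) : Matrix ι ι k) - 1 =
      (x : Matrix ι ι k) * (((g : Matrix ι ι k) - 1) * ((x⁻¹ : GL ι k) : Matrix ι ι k)) := by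
    rw [Matrix.sub_mul, Matrix.mul_sub, one_mul, ← Units.val_mul x, mul_inv_cancel, Units.val_one,
      ← Units.val_mul, ← Units.val_mul, ← mul_assoc]
  have hd : ∀ x : GL ι k, IsUnit (x : Matrix ι ι k).det := fun x =>
    (Matrix.isUnit_iff_isUnit_det _).1 x.isUnit
  rw [h4, Matrix.rank_mul_eq_right_of_isUnit_det _ _ (hd _), Matrix.rank_mul_eq_left_of_isUnit_det _ _ (hd _)]

theorem eq_one_of_rank {g : GL ι k} (h : ((g : Matrix ι ι k) - 1).rank = 0) : g = 1 := by
  have h0 : (g : Matrix ι ι k) - 1 = 0 := by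
    rw [Matrix.rank, Submodule.finrank_eq_zero, LinearMap.range_eq_bot] at h
    ext i j
    have h1 := congrFun (LinearMap.congr_fun h (Pi.single j 1)) i
    simpa [Matrix.one_apply, Pi.single_apply] using h1
  exact Units.ext (sub_eq_zero.1 h0)

/-- the sum of a sign character -/
theorem sum_sign {E : Type*} [Group E] [Fintype E] {f : E → ℤ} (h1 : ∀ x, f x = 1 ∨ f x = -1)
    (h2 : ∀ x y, f (x * y) = f x * f y) : (∀ x, f x = 1) ∨ ∑ x, f x = 0 := by
  by_cases h : ∀ x, f x = 1
  · exact Or.inl h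
  · right
    push Not at h
    obtain ⟨b, hb⟩ := h
    have hb' := (h1 b).resolve_left hb
    have h3 : ∑ x, f (b * x) = ∑ x, f x := Fintype.sum_equiv (Equiv.mulLeft b) _ _ fun _ => rfl
    have h4 : ∑ x, f (b * x) = -∑ x, f x := by
      rw [← Finset.sum_neg_distrib]
      exact Finset.sum_congr rfl fun x _ => by rw [h2, hb', neg_one_mul]
    linarith

/-- **`q ^ 3 ≤ 2 n`** -/
theorem card_le (h2 : (2 : F) = 0) (hk : (2 : k) ≠ 0) (ρ : ↥(chevG2.group F) →* GL ι k) (hρ : Function.Injective ρ) :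
    Fintype.card F ^ 3 ≤ 2 * Fintype.card ι := by
  classical
  have h3 : (3 : F) ≠ 0 := by
    have : (3 : F) = 1 := by
      rw [← sub_eq_zero]
      rw [show (3 : F) - 1 = 2 by norm_num, h2]
    rw [this]
    exact one_ne_zero
  have hsq : ∀ x : Multiplicative (F × F × F), x * x = 1 := by
    intro x
    obtain ⟨a, b, c⟩ := x
    show Multiplicative.ofAdd ((a + a, b + b, c + c) : F × F × F) = 1
    rw [← two_mul, ← two_mul, ← two_mul, h2, zero_mul, zero_mul, zero_mul]
    rfl
  obtain ⟨κ, iκ, χ, hc, hpm, hmul, hr⟩ := Cfsg.Agent.H357.EP.exists_signs hk hsq (ρ.comp (ah F))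
  let g : F → F → F → Multiplicative (F × F × F) := fun u v w => Multiplicative.ofAdd (u, v, w)
  have gmul : ∀ u v w w', g u v (w + w') = g u v w * g 0 0 w' := by
    intro u v w w'
    show Multiplicative.ofAdd ((u, v, w + w') : F × F × F) = Multiplicative.ofAdd ((u + 0, v + 0, w + w') : F × F × F)
    rw [add_zero, add_zero]
  let β : Multiplicative (F × F × F) → ℤ := fun x => ∑ i, χ i x
  have hβ : ∀ x y, IsConj (ah F x) (ah F y) → β x = β y := by
    intro x y hxy
    show ∑ i, χ i x = ∑ i, χ i y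
    rw [← hr, ← hr]
    have h4 := rank_conj (MonoidHom.map_isConj ρ hxy)
    show (Fintype.card ι : ℤ) - 2 * (((ρ (ah F x) : Matrix ι ι k) - 1).rank : ℤ) =
      (Fintype.card ι : ℤ) - 2 * (((ρ (ah F y) : Matrix ι ι k) - 1).rank : ℤ)
    rw [h4]
  have hχ1 : ∀ i, χ i 1 = 1 := by
    intro i
    have h4 := hmul i 1 1
    rw [mul_one] at h4
    rcases hpm i 1 with h | h
    · exact h
    · rw [h] at h4; norm_num at h4
  have hβ1 : β 1 = Fintype.card ι := by
    show ∑ i, χ i 1 = _
    rw [Finset.sum_congr rfl fun i _ => hχ1 i, Finset.sum_const, Finset.card_univ, hc, nsmul_eq_mul, mul_one]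
  -- a sign character which is not trivial on `X₁₁`
  obtain ⟨i, hi⟩ : ∃ i, χ i (g 0 0 1) = -1 := by
    by_contra hcon
    push Not at hcon
    have h4 : ∀ i, χ i (g 0 0 1) = 1 := fun i => (hpm i _).resolve_right (hcon i)
    have h5 := hr (g 0 0 1)
    rw [Finset.sum_congr rfl fun i _ => h4 i, Finset.sum_const, Finset.card_univ, hc, nsmul_eq_mul, mul_one] at h5
    have h6 : (((ρ.comp (ah F)) (g 0 0 1) : Matrix ι ι k) - 1).rank = 0 := by
      have h7 : (((((ρ.comp (ah F)) (g 0 0 1) : Matrix ι ι k) - 1).rank : ℕ) : ℤ) = 0 := by linarith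
      exact_mod_cast h7
    have h7 := hρ ((eq_one_of_rank h6).trans (map_one ρ).symm)
    have h8 : X 9 h9 (0 : F) * (X 10 h10 0 * X 11 h11 1) = 1 := h7
    rw [X_zero, X_zero, one_mul, one_mul] at h8
    exact one_ne_zero (X_eq_one h8)
  have hconv : ∀ f : Multiplicative (F × F × F) → ℤ, ∑ x, f x = ∑ u, ∑ v, ∑ w, f (g u v w) := by
    intro f
    have e1 : ∑ x, f x = ∑ x : F × F × F, f (Multiplicative.ofAdd x) :=
      Fintype.sum_equiv Multiplicative.toAdd _ _ fun _ => rfl
    rw [e1, Fintype.sum_prod_type]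
    refine Finset.sum_congr rfl fun u _ => ?_
    rw [Fintype.sum_prod_type]
  have hw0 : ∑ w : F, χ i (g 0 0 w) = 0 := by
    have e1 : ∑ w : F, χ i (g 0 0 w) = ∑ w : Multiplicative F, χ i (g 0 0 (Multiplicative.toAdd w)) :=
      Fintype.sum_equiv Multiplicative.ofAdd _ _ fun _ => rfl
    rw [e1]
    rcases sum_sign (E := Multiplicative F) (f := fun w => χ i (g 0 0 (Multiplicative.toAdd w)))
      (fun _ => hpm i _) (fun x y => by
        show χ i (g 0 0 (Multiplicative.toAdd x + Multiplicative.toAdd y)) = _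
        rw [gmul, hmul]) with h | h
    · exfalso
      have h4 : χ i (g 0 0 1) = 1 := h (Multiplicative.ofAdd 1)
      rw [hi] at h4
      norm_num at h4
    · exact h
  have hwS : ∀ u v, ∑ w : F, χ i (g u v w) = 0 := by
    intro u v
    have e1 : ∀ w, χ i (g u v w) = χ i (g u v 0) * χ i (g 0 0 w) := by
      intro w
      have := gmul u v 0 w
      rw [zero_add] at this
      rw [this, hmul]
    rw [Finset.sum_congr rfl fun w _ => e1 w, ← Finset.mul_sum, hw0, mul_zero]
  -- the sum of `β χ i`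
  have S1 : ∑ x, β x * χ i x = Fintype.card ι - β (g 0 0 1) := by
    rw [hconv]
    have e1 : ∀ u, u ≠ 0 → ∑ v, ∑ w, β (g u v w) * χ i (g u v w) = 0 := by
      intro u hu
      refine Finset.sum_eq_zero fun v _ => ?_
      have e2 : ∀ w, β (g u v w) = β (g u v 0) := fun w => hβ _ _ (isConj_w h3 hu v w 0)
      rw [Finset.sum_congr rfl fun w _ => by rw [e2 w], ← Finset.mul_sum, hwS, mul_zero]
    rw [Finset.sum_eq_single (0 : F) (fun u _ hu => e1 u hu) (fun h => absurd (Finset.mem_univ _) h)]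
    have e3 : ∀ v w, β (g 0 v w) = β (g 0 0 1) + (if v = 0 ∧ w = 0 then (Fintype.card ι : ℤ) - β (g 0 0 1) else 0) := by
      intro v w
      by_cases h : v = 0 ∧ w = 0
      · rw [if_pos h, h.1, h.2]
        have : β (g 0 0 0) = Fintype.card ι := hβ1
        rw [this]
        ring
      · rw [if_neg h, add_zero]
        apply hβ
        show IsConj (X 9 h9 (0 : F) * (X 10 h10 v * X 11 h11 w)) (X 9 h9 (0 : F) * (X 10 h10 0 * X 11 h11 1))
        rw [X_zero, one_mul, one_mul]
        exact (isConj_one h).symm.trans (isConj_one (fun h' => one_ne_zero h'.2))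
    have e4 : ∀ v w, β (g 0 v w) * χ i (g 0 v w) = β (g 0 0 1) * χ i (g 0 v w) +
        (if v = 0 ∧ w = 0 then (Fintype.card ι : ℤ) - β (g 0 0 1) else 0) := by
      intro v w
      rw [e3, add_mul]
      congr 1
      by_cases h : v = 0 ∧ w = 0
      · rw [if_pos h, h.1, h.2]
        have : χ i (g 0 0 0) = 1 := hχ1 i
        rw [this, mul_one]
      · rw [if_neg h, zero_mul]
    rw [Finset.sum_congr rfl fun v _ => Finset.sum_congr rfl fun w _ => e4 v w]
    have e5 : ∀ v, ∑ w, (β (g 0 0 1) * χ i (g 0 v w) +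
        (if v = 0 ∧ w = 0 then (Fintype.card ι : ℤ) - β (g 0 0 1) else 0)) =
        if v = 0 then (Fintype.card ι : ℤ) - β (g 0 0 1) else 0 := by
      intro v
      rw [Finset.sum_add_distrib, ← Finset.mul_sum, hwS, mul_zero, zero_add]
      by_cases hv : v = 0
      · rw [if_pos hv, Finset.sum_eq_single (0 : F) (fun w _ hw => if_neg fun h => hw h.2)
          (fun h => absurd (Finset.mem_univ _) h), if_pos ⟨hv, rfl⟩]
      · rw [if_neg hv]
        exact Finset.sum_eq_zero fun w _ => if_neg fun h => hv h.1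
    rw [Finset.sum_congr rfl fun v _ => e5 v, Finset.sum_ite_eq' Finset.univ (0 : F), if_pos (Finset.mem_univ _)]
  have hcardA : Fintype.card (Multiplicative (F × F × F)) = Fintype.card F ^ 3 := by
    rw [Fintype.card_multiplicative, Fintype.card_prod, Fintype.card_prod]
    ring
  have S2 : (Fintype.card F ^ 3 : ℤ) ≤ ∑ x, β x * χ i x := by
    have e1 : ∑ x, β x * χ i x = ∑ j, ∑ x, χ j x * χ i x := by
      rw [Finset.sum_comm]
      exact Finset.sum_congr rfl fun x _ => Finset.sum_mul _ _ _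
    rw [e1]
    have e2 : ∀ j, (∀ x, χ j x * χ i x = 1) ∨ ∑ x, χ j x * χ i x = 0 := fun j =>
      sum_sign (fun x => by
        rcases hpm j x with h | h <;> rcases hpm i x with h' | h' <;> rw [h, h'] <;> norm_num) fun x y => by
          rw [hmul, hmul]; ring
    have e3 : ∀ j, (∀ x, χ j x * χ i x = 1) → ∑ x, χ j x * χ i x = (Fintype.card F ^ 3 : ℤ) := by
      intro j hj
      rw [Finset.sum_congr rfl fun x _ => hj x, Finset.sum_const, Finset.card_univ, hcardA, nsmul_eq_mul, mul_one]
      push_cast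
      rfl
    have e4 : ∀ j, 0 ≤ ∑ x, χ j x * χ i x := by
      intro j
      rcases e2 j with h | h
      · rw [e3 j h]; positivity
      · rw [h]
    rw [← e3 i fun x => by rcases hpm i x with h | h <;> (rw [h]; norm_num)]
    exact Finset.single_le_sum (f := fun j => ∑ x, χ j x * χ i x) (fun j _ => e4 j) (Finset.mem_univ i)
  have S3 : -(Fintype.card ι : ℤ) ≤ β (g 0 0 1) := by
    show _ ≤ ∑ j, χ j (g 0 0 1)
    rw [← hc, ← Finset.card_univ (α := κ), ← mul_one ((Finset.univ : Finset κ).card : ℤ), ← nsmul_eq_mul,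
      ← Finset.sum_const, ← Finset.sum_neg_distrib]
    refine Finset.sum_le_sum fun j _ => ?_
    rcases hpm j (g 0 0 1) with h | h <;> rw [h] <;> norm_num
  have S4 : (Fintype.card F ^ 3 : ℤ) ≤ 2 * Fintype.card ι := by linarith
  exact_mod_cast S4

end main

end Cfsg.Agent.H929.TB.G2Dim
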